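import Mathlib
set_option linter.all false

/-!
# Orbits of `⟨q, -1⟩` on roots of unity of order `r * s`
-/

set_option autoImplicit false

namespace Cfsg.Agent.H376.SpCount

/-- the group generated by `q` and `-1` modulo `m` -/
def grp (m q : ℕ) (hq : Nat.Coprime q m) : Subgroup (ZMod m)ˣ :=
  Subgroup.closure {ZMod.unitOfCoprime q hq, -1}

section

variable {L : Type*} [Field L] {q m : ℕ} (hq : Nat.Coprime q m) (R : Finset L)
  (hRq : ∀ x ∈ R, x ^ q ∈ R) (hRi : ∀ x ∈ R, x⁻¹ ∈ R)

theorem pow_val_mul [NeZero m] {x : L} (hx : x ^ m = 1) (u v : ZMod m) :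
    x ^ (u * v).val = (x ^ u.val) ^ v.val := by
  rw [← pow_mul]
  apply pow_eq_pow_of_modEq _ hx
  rw [ZMod.val_mul]
  exact Nat.mod_modEq _ _

include hRq hRi in
theorem pow_mem [NeZero m] (u : (ZMod m)ˣ) (hu : u ∈ grp m q hq) :
    ∀ x ∈ R, x ^ m = 1 → x ^ (u : ZMod m).val ∈ R := by
  have hone : ∀ x ∈ R, x ^ m = 1 → x ^ (((1 : (ZMod m)ˣ) : ZMod m).val) ∈ R := by
    intro x hx hxm
    have h1 : x ^ (((1 : (ZMod m)ˣ) : ZMod m).val) = x ^ 1 := by
      apply pow_eq_pow_of_modEq _ hxm
      rw [Units.val_one, ← ZMod.natCast_eq_natCast_iff, ZMod.natCast_zmod_val, Nat.cast_one]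
    rw [h1, pow_one]
    exact hx
  have hmul : ∀ u v : (ZMod m)ˣ, (∀ x ∈ R, x ^ m = 1 → x ^ (u : ZMod m).val ∈ R) →
      (∀ x ∈ R, x ^ m = 1 → x ^ (v : ZMod m).val ∈ R) →
      ∀ x ∈ R, x ^ m = 1 → x ^ ((u * v : (ZMod m)ˣ) : ZMod m).val ∈ R := by
    intro u v hu hv x hx hxm
    rw [Units.val_mul, pow_val_mul hxm]
    exact hv _ (hu x hx hxm) (by rw [← pow_mul, mul_comm, pow_mul, hxm, one_pow])
  unfold grp at hu
  induction hu using Subgroup.closure_induction with
  | mem u hu =>
    rcases hu with rfl | hu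
    · intro x hx hxm
      have h1 : x ^ (((ZMod.unitOfCoprime q hq : (ZMod m)ˣ) : ZMod m).val) = x ^ q := by
        apply pow_eq_pow_of_modEq _ hxm
        rw [ZMod.coe_unitOfCoprime, ← ZMod.natCast_eq_natCast_iff, ZMod.natCast_zmod_val]
      rw [h1]
      exact hRq x hx
    · rw [Set.mem_singleton_iff] at hu
      subst hu
      intro x hx hxm
      have h1 : x ^ (((-1 : (ZMod m)ˣ) : ZMod m).val) = x⁻¹ := by
        apply eq_inv_of_mul_eq_one_left
        rw [← pow_succ]
        rw [← pow_zero x]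
        apply pow_eq_pow_of_modEq _ hxm
        rw [← ZMod.natCast_eq_natCast_iff]
        push_cast
        rw [ZMod.natCast_zmod_val]
        simp
      rw [h1]
      exact hRi x hx
  | one => exact hone
  | mul u v _ _ hu hv => exact hmul u v hu hv
  | inv u _ hu =>
    have hpow : ∀ i : ℕ, ∀ x ∈ R, x ^ m = 1 → x ^ ((u ^ i : (ZMod m)ˣ) : ZMod m).val ∈ R := by
      intro i
      induction i with
      | zero => rw [pow_zero]; exact hone
      | succ i ih => rw [pow_succ]; exact hmul _ _ ih hu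
    have h1 : u⁻¹ = u ^ (orderOf u - 1) := by
      apply inv_eq_of_mul_eq_one_left
      rw [← pow_succ, Nat.sub_add_cancel (orderOf_pos u), pow_orderOf_eq_one]
    rw [h1]
    exact hpow _

include hRq hRi in
theorem card_le [NeZero m] {x : L} (hx : x ∈ R) (hxm : orderOf x = m) :
    Nat.card (grp m q hq) ≤ (R.filter fun y => orderOf y = m).card := by
  classical
  have hx1 : x ^ m = 1 := by rw [← hxm]; exact pow_orderOf_eq_one x
  rw [Nat.card_eq_fintype_card]
  refine (Finset.card_le_card_of_injOn (fun u : grp m q hq => x ^ ((u : (ZMod m)ˣ) : ZMod m).val)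
    (s := Finset.univ) ?_ ?_)
  · intro u _
    rw [Finset.mem_coe, Finset.mem_filter]
    refine ⟨pow_mem hq R hRq hRi _ u.2 x hx hx1, ?_⟩
    rw [Nat.Coprime.orderOf_pow, hxm]
    rw [hxm]
    exact (ZMod.val_coe_unit_coprime _).symm
  · intro u _ v _ huv
    have h1 : x ^ ((u : (ZMod m)ˣ) : ZMod m).val = x ^ ((v : (ZMod m)ˣ) : ZMod m).val := huv
    have h2 := pow_injOn_Iio_orderOf (x := x) (by rw [hxm]; exact ZMod.val_lt _)
      (by rw [hxm]; exact ZMod.val_lt _) h1
    exact Subtype.ext (Units.ext (ZMod.val_injective m h2))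

end

theorem dvd_card {r q k η : ℕ} (hr : r.Prime) (hr2 : r ≠ 2) (hq : Nat.Coprime q r)
    (hk : k = orderOf ((q : ℕ) : ZMod r)) (hη : (Odd k ∧ η = k) ∨ (Even k ∧ 2 * η = k)) :
    2 * η ∣ Nat.card (grp r q hq) := by
  have : Fact r.Prime := ⟨hr⟩
  have h1 : k ∣ Nat.card (grp r q hq) := by
    have h2 : orderOf (ZMod.unitOfCoprime q hq) = k := by
      rw [hk, ← orderOf_units, ZMod.coe_unitOfCoprime]
    rw [← h2]
    exact Subgroup.orderOf_dvd_natCard _ (Subgroup.subset_closure (Set.mem_insert _ _))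
  rcases hη with ⟨hodd, rfl⟩ | ⟨_, h⟩
  · have h2 : 2 ∣ Nat.card (grp r q hq) := by
      have h3 : orderOf (-1 : (ZMod r)ˣ) = 2 := by
        rw [← orderOf_units, Units.val_neg, Units.val_one, orderOf_neg_one]
        rw [if_neg]
        rw [ringChar.eq (ZMod r) r]
        exact hr2
      rw [← h3]
      exact Subgroup.orderOf_dvd_natCard _ (Subgroup.subset_closure (by simp))
    exact Nat.Coprime.mul_dvd_of_dvd_of_dvd (Nat.coprime_two_left.2 hodd) h2 h1
  · rw [h]; exact h1

theorem map_grp {r s q : ℕ} (hqs : Nat.Coprime q s) (hq : Nat.Coprime q (r * s)) :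
    (grp (r * s) q hq).map (ZMod.unitsMap (dvd_mul_left s r)) = grp s q hqs := by
  unfold grp
  rw [MonoidHom.map_closure, Set.image_insert_eq, Set.image_singleton]
  congr 2
  · apply Units.ext
    rw [ZMod.unitsMap_val, ZMod.coe_unitOfCoprime, ZMod.coe_unitOfCoprime]
    exact ZMod.cast_natCast (dvd_mul_left s r) q
  · congr 1
    apply Units.ext
    rw [ZMod.unitsMap_def, Units.coe_map, Units.val_neg, Units.val_one, MonoidHom.coe_coe, map_neg,
      map_one]
    rfl

/-- **Orbits of roots of unity of order `r * s`.** -/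
theorem bound {r s q k l ηk ηl : ℕ} (hr : r.Prime) (hs : s.Prime) (hr2 : r ≠ 2) (hs2 : s ≠ 2)
    (hqs : Nat.Coprime q s) (hq : Nat.Coprime q (r * s))
    (hk : k = orderOf ((q : ℕ) : ZMod r)) (hl : l = orderOf ((q : ℕ) : ZMod s))
    (hηl : (Odd l ∧ ηl = l) ∨ (Even l ∧ 2 * ηl = l)) (hkl : ηk ≤ ηl) (hno : ¬ ∃ t, Odd t ∧ l = k * t) :
    2 * (ηk + ηl) ≤ Nat.card (grp (r * s) q hq) := by
  have : Fact r.Prime := ⟨hr⟩
  have : Fact s.Prime := ⟨hs⟩
  have : NeZero (r * s) := ⟨(Nat.mul_pos hr.pos hs.pos).ne'⟩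
  have hd := dvd_card hs hs2 hqs hl hηl
  have hds := Nat.le_of_dvd Nat.card_pos hd
  let φ : grp (r * s) q hq →* (ZMod s)ˣ := (ZMod.unitsMap (dvd_mul_left s r)).comp
    (grp (r * s) q hq).subtype
  have hrange : φ.range = grp s q hqs := by
    rw [← map_grp hqs hq, MonoidHom.range_comp, Subgroup.range_subtype]
  have hcard : Nat.card (grp (r * s) q hq) = Nat.card φ.ker * Nat.card (grp s q hqs) := by
    rw [← hrange, ← Subgroup.index_ker, Subgroup.card_mul_index]
  by_cases hker : φ.ker = ⊥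
  · exfalso
    apply hno
    have hinj : Function.Injective φ := (MonoidHom.ker_eq_bot_iff φ).1 hker
    have hQ : ZMod.unitOfCoprime q hq ∈ grp (r * s) q hq :=
      Subgroup.subset_closure (Set.mem_insert _ _)
    have hN : (-1 : (ZMod (r * s))ˣ) ∈ grp (r * s) q hq := Subgroup.subset_closure (by simp)
    have key : ∀ u ∈ grp (r * s) q hq, ZMod.unitsMap (dvd_mul_left s r) u = 1 → u = 1 := by
      intro u hu h1
      have h2 : (⟨u, hu⟩ : grp (r * s) q hq) = 1 := by
        apply hinj
        rw [map_one]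
        exact h1
      exact congrArg Subtype.val h2
    have hcast : ∀ i : ℕ, ((ZMod.unitsMap (dvd_mul_left s r) (ZMod.unitOfCoprime q hq ^ i) :
        (ZMod s)ˣ) : ZMod s) = (q : ZMod s) ^ i := by
      intro i
      rw [ZMod.unitsMap_def, Units.coe_map, Units.val_pow_eq_pow_val, ZMod.coe_unitOfCoprime]
      simp
    have hcastr : ∀ i : ℕ, ((ZMod.unitsMap (dvd_mul_right r s) (ZMod.unitOfCoprime q hq ^ i) :
        (ZMod r)ˣ) : ZMod r) = (q : ZMod r) ^ i := by
      intro i
      rw [ZMod.unitsMap_def, Units.coe_map, Units.val_pow_eq_pow_val, ZMod.coe_unitOfCoprime]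
      simp
    rcases hηl with ⟨hodd, _⟩ | ⟨heven, _⟩
    · have h1 : ZMod.unitOfCoprime q hq ^ l = 1 := by
        apply key _ (Subgroup.pow_mem _ hQ _)
        apply Units.ext
        rw [hcast, hl, pow_orderOf_eq_one, Units.val_one]
      have h2 := hcastr l
      rw [h1, map_one, Units.val_one] at h2
      have h3 : k ∣ l := by
        rw [hk]
        exact orderOf_dvd_of_pow_eq_one h2.symm
      obtain ⟨t, ht⟩ := h3
      refine ⟨t, ?_, ht⟩
      rw [ht] at hodd
      exact (Nat.odd_mul.1 hodd).2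
    · obtain ⟨h, hh⟩ := heven
      have hl0 : 0 < l := by
        rw [hl, ← ZMod.coe_unitOfCoprime q hqs, orderOf_units]
        exact orderOf_pos _
      have h1 : (q : ZMod s) ^ h = -1 := by
        have h2 : (q : ZMod s) ^ h * (q : ZMod s) ^ h = 1 := by
          rw [← pow_add, ← hh, hl, pow_orderOf_eq_one]
        rcases mul_self_eq_one_iff.1 h2 with h3 | h3
        · exfalso
          have h4 := orderOf_dvd_of_pow_eq_one h3
          rw [← hl] at h4
          have := Nat.le_of_dvd (by omega) h4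
          omega
        · exact h3
      have h2 : ZMod.unitOfCoprime q hq ^ h * (-1) = 1 := by
        apply key _ (Subgroup.mul_mem _ (Subgroup.pow_mem _ hQ _) hN)
        rw [map_mul]
        apply Units.ext
        rw [Units.val_mul, hcast, h1, Units.val_one, ZMod.unitsMap_def, Units.coe_map]
        simp
      have h3 : (q : ZMod r) ^ h = -1 := by
        have h4 := congrArg (fun u => ((ZMod.unitsMap (dvd_mul_right r s) u : (ZMod r)ˣ) : ZMod r)) h2
        simp only [map_mul, Units.val_mul, hcastr, map_one, Units.val_one] at h4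
        rw [ZMod.unitsMap_def, Units.coe_map] at h4
        simp only [Units.val_neg, Units.val_one, MonoidHom.coe_coe, map_neg, map_one, mul_neg,
          mul_one] at h4
        rw [← h4, neg_neg]
      have h5 : k ∣ l := by
        rw [hk, hh, ← two_mul]
        apply orderOf_dvd_of_pow_eq_one
        rw [mul_comm, pow_mul, h3]
        simp
      obtain ⟨t, ht⟩ := h5
      refine ⟨t, ?_, ht⟩
      by_contra hto
      rw [Nat.not_odd_iff_even] at hto
      obtain ⟨c, hc⟩ := hto
      have h6 : h = k * c := by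
        have : h + h = k * c + k * c := by rw [← hh, ht, hc, mul_add]
        omega
      have h7 : (q : ZMod r) ^ h = 1 := by rw [h6, pow_mul, hk, pow_orderOf_eq_one, one_pow]
      rw [h3] at h7
      have h8 : ringChar (ZMod r) ≠ 2 := by rw [ringChar.eq (ZMod r) r]; exact hr2
      exact Ring.neg_one_ne_one_of_char_ne_two h8 h7
  · have h2 : 2 ≤ Nat.card φ.ker := by
      have := Subgroup.one_lt_card_iff_ne_bot φ.ker |>.2 hker
      exact this
    rw [hcard]
    nlinarith

end Cfsg.Agent.H376.SpCount
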