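import Cfsg.Agent.H376.PrimeOrd
import Cfsg.Agent.LieClassical.SympCount
import Cfsg.Agent.ClassicalGeometry.SympInvolutions
import Mathlib
set_option linter.all false

/-!
# Embeddings into symplectic groups

* `ofSLTwo`: restriction of scalars `SL_2(K) → Sp_{2m}(F)`, `m = [K : F]`;
* `levi`: `GL_m(F) → Sp_{2m}(F)`;
* `blk`: `Sp_{2a}(F) × Sp_{2b}(F) → Sp_{2(a+b)}(F)`.
-/

set_option autoImplicit false

namespace Cfsg.Agent.H376.SpEmb

open Matrix

section Restrict

variable {F K : Type*} [Field F] [Field K] [Algebra F K] {ι : Type*} [Fintype ι] [DecidableEq ι]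
  (b : Module.Basis ι F K)

theorem trace_mul (a : K) :
    Algebra.traceMatrix F b * Algebra.leftMulMatrix b a =
      (Algebra.leftMulMatrix b a)ᵀ * Algebra.traceMatrix F b := by
  have key : ∀ i j, (Algebra.traceMatrix F b * Algebra.leftMulMatrix b a) i j =
      Algebra.trace F K (b i * (a * b j)) := by
    intro i j
    rw [Matrix.mul_apply]
    have h1 : a * b j = ∑ k, Algebra.leftMulMatrix b a k j • b k := by
      rw [← b.sum_repr (a * b j)]
      refine Finset.sum_congr rfl fun k _ => ?_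
      rw [Algebra.leftMulMatrix_eq_repr_mul]
    rw [h1, Finset.mul_sum, map_sum]
    refine Finset.sum_congr rfl fun k _ => ?_
    rw [mul_smul_comm, map_smul, Algebra.traceMatrix_apply, Algebra.traceForm_apply, smul_eq_mul,
      mul_comm]
  ext i j
  have h2 : ((Algebra.leftMulMatrix b a)ᵀ * Algebra.traceMatrix F b) i j =
      (Algebra.traceMatrix F b * Algebra.leftMulMatrix b a) j i := by
    rw [Matrix.mul_apply, Matrix.mul_apply]
    refine Finset.sum_congr rfl fun k _ => ?_
    rw [Matrix.transpose_apply, mul_comm, Algebra.traceMatrix_apply, Algebra.traceMatrix_apply,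
      Algebra.traceForm_apply, Algebra.traceForm_apply, mul_comm (b k)]
  rw [h2, key, key]
  congr 1
  ring

omit [Fintype ι] [DecidableEq ι] in
theorem trace_transpose : (Algebra.traceMatrix F b)ᵀ = Algebra.traceMatrix F b := by
  ext i j
  rw [Matrix.transpose_apply, Algebra.traceMatrix_apply, Algebra.traceMatrix_apply,
      Algebra.traceForm_apply, Algebra.traceForm_apply, mul_comm (b j)]

variable [Algebra.IsSeparable F K] [FiniteDimensional F K]

theorem isUnit_trace : IsUnit (Algebra.traceMatrix F b).det := by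
  have := Algebra.discr_isUnit_of_basis F b
  exact this

theorem mul_inv_trace (a : K) : Algebra.leftMulMatrix b a * (Algebra.traceMatrix F b)⁻¹ =
    (Algebra.traceMatrix F b)⁻¹ * (Algebra.leftMulMatrix b a)ᵀ := by
  have h := isUnit_trace (F := F) b
  have h1 := trace_mul (F := F) b a
  calc Algebra.leftMulMatrix b a * (Algebra.traceMatrix F b)⁻¹ =
      ((Algebra.traceMatrix F b)⁻¹ * Algebra.traceMatrix F b) * Algebra.leftMulMatrix b a *
        (Algebra.traceMatrix F b)⁻¹ := by rw [Matrix.nonsing_inv_mul _ h, one_mul]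
    _ = (Algebra.traceMatrix F b)⁻¹ * (Algebra.traceMatrix F b * Algebra.leftMulMatrix b a) *
        (Algebra.traceMatrix F b)⁻¹ := by simp only [mul_assoc]
    _ = (Algebra.traceMatrix F b)⁻¹ * (Algebra.leftMulMatrix b a)ᵀ * (Algebra.traceMatrix F b *
        (Algebra.traceMatrix F b)⁻¹) := by rw [h1]; simp only [mul_assoc]
    _ = _ := by rw [Matrix.mul_nonsing_inv _ h, mul_one]

/-- **Restriction of scalars** -/
noncomputable def ofSLTwo : Matrix.SpecialLinearGroup (Fin 2) K →* Matrix.symplecticGroup ι F where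
  toFun g := ⟨fromBlocks (Algebra.leftMulMatrix b (g 0 0))
    (Algebra.leftMulMatrix b (g 0 1) * (Algebra.traceMatrix F b)⁻¹)
    (Algebra.traceMatrix F b * Algebra.leftMulMatrix b (g 1 0))
    (Algebra.leftMulMatrix b (g 1 1))ᵀ, by
      have h := isUnit_trace (F := F) b
      have hd : g 0 0 * g 1 1 - g 0 1 * g 1 0 = 1 := by
        have := g.2
        rw [Matrix.det_fin_two] at this
        exact this
      rw [SymplecticGroup.fromBlocks_mem_iff]
      refine ⟨?_, ?_, ?_⟩
      · rw [Matrix.transpose_mul, trace_transpose, ← trace_mul, ← mul_assoc, ← trace_mul,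
          mul_assoc, mul_assoc, ← map_mul, ← map_mul, mul_comm (g 0 0)]
      · rw [Matrix.transpose_mul, Matrix.transpose_nonsing_inv, trace_transpose,
          Matrix.transpose_transpose, ← mul_inv_trace, mul_assoc, ← mul_inv_trace, ← mul_assoc,
          ← mul_assoc, ← map_mul, ← map_mul, mul_comm (g 0 1)]
      · rw [Matrix.transpose_mul, trace_transpose, ← trace_mul]
        have h1 : (Algebra.leftMulMatrix b (g 0 0))ᵀ * (Algebra.leftMulMatrix b (g 1 1))ᵀ =
            Algebra.traceMatrix F b * Algebra.leftMulMatrix b (g 1 1 * g 0 0) *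
              (Algebra.traceMatrix F b)⁻¹ := by
          rw [trace_mul, map_mul, Matrix.transpose_mul, mul_assoc, mul_assoc,
            Matrix.mul_nonsing_inv _ h, mul_one]
        rw [h1, mul_assoc, mul_assoc, ← mul_assoc (Algebra.leftMulMatrix b (g 1 0)), ← map_mul,
          ← mul_sub, ← sub_mul, ← map_sub, mul_comm (g 1 1), mul_comm (g 1 0), hd, map_one, one_mul,
          Matrix.mul_nonsing_inv _ h]⟩
  map_one' := by
    apply Subtype.ext
    simp
  map_mul' g h := by
    have hu := isUnit_trace (F := F) b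
    apply Subtype.ext
    change _ = fromBlocks _ _ _ _ * fromBlocks _ _ _ _
    rw [Matrix.fromBlocks_multiply]
    have e1 : ∀ i j, (g * h) i j = g i 0 * h 0 j + g i 1 * h 1 j := by
      intro i j
      rw [Matrix.SpecialLinearGroup.coe_mul, Matrix.mul_apply, Fin.sum_univ_two]
    simp only [e1, map_add, map_mul]
    congr 1
    · congr 1
      rw [mul_assoc, ← mul_assoc (Algebra.traceMatrix F b)⁻¹, Matrix.nonsing_inv_mul _ hu, one_mul]
    · rw [add_mul, mul_assoc, mul_assoc, mul_assoc, mul_inv_trace b (h 1 1)]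
    · rw [mul_add, mul_assoc]
      congr 1
      rw [← mul_assoc, trace_mul, mul_assoc]
    · rw [Matrix.transpose_add, Matrix.transpose_mul, Matrix.transpose_mul]
      congr 1
      · rw [mul_assoc, ← mul_assoc (Algebra.leftMulMatrix b (g 1 0)), ← map_mul,
          mul_inv_trace, ← mul_assoc, Matrix.mul_nonsing_inv _ hu, one_mul, map_mul,
          Matrix.transpose_mul]
      · rw [← Matrix.transpose_mul, ← Matrix.transpose_mul, ← map_mul, ← map_mul, mul_comm]

theorem ofSLTwo_injective : Function.Injective (ofSLTwo (F := F) b) := by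
  have hu := isUnit_trace (F := F) b
  have hT : (Algebra.traceMatrix F b)⁻¹ * Algebra.traceMatrix F b = 1 := Matrix.nonsing_inv_mul _ hu
  have hinj := Algebra.leftMulMatrix_injective b
  intro g h hgh
  have h1 := Matrix.fromBlocks_inj.1 (congrArg Subtype.val hgh)
  obtain ⟨ha, hb, hc, hd⟩ := h1
  have hb' : Algebra.leftMulMatrix b (g 0 1) = Algebra.leftMulMatrix b (h 0 1) := by
    have := congrArg (· * Algebra.traceMatrix F b) hb
    simpa only [mul_assoc, hT, mul_one] using this
  have hc' : Algebra.leftMulMatrix b (g 1 0) = Algebra.leftMulMatrix b (h 1 0) := by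
    have := congrArg ((Algebra.traceMatrix F b)⁻¹ * ·) hc
    simpa only [← mul_assoc, hT, one_mul] using this
  have hd' := Matrix.transpose_injective hd
  apply Subtype.ext
  ext i j
  fin_cases i <;> fin_cases j
  · exact hinj ha
  · exact hinj hb'
  · exact hinj hc'
  · exact hinj hd'

end Restrict

section Blocks

variable {F : Type*} [Field F]

/-- the Levi subgroup `GL_m` -/
noncomputable def levi (ι : Type*) [Fintype ι] [DecidableEq ι] :
    GL ι F →* Matrix.symplecticGroup ι F where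
  toFun g := ⟨fromBlocks g.1 0 0 (g⁻¹).1ᵀ, by
    rw [SymplecticGroup.fromBlocks_mem_iff]
    refine ⟨by simp, by simp, ?_⟩
    rw [← Matrix.transpose_mul, ← Units.val_mul, inv_mul_cancel]
    simp⟩
  map_one' := by
    apply Subtype.ext
    simp
  map_mul' g h := by
    apply Subtype.ext
    change _ = fromBlocks _ _ _ _ * fromBlocks _ _ _ _
    rw [Matrix.fromBlocks_multiply]
    simp [Matrix.transpose_mul]

theorem levi_injective (ι : Type*) [Fintype ι] [DecidableEq ι] :
    Function.Injective (levi (F := F) ι) := by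
  intro g h hgh
  have h1 := Matrix.fromBlocks_inj.1 (congrArg Subtype.val hgh)
  exact Units.ext h1.1

/-- block diagonal matrices -/
def blkM {α β : Type*} (g : Matrix (α ⊕ α) (α ⊕ α) F) (h : Matrix (β ⊕ β) (β ⊕ β) F) :
    Matrix ((α ⊕ β) ⊕ (α ⊕ β)) ((α ⊕ β) ⊕ (α ⊕ β)) F :=
  fromBlocks (fromBlocks g.toBlocks₁₁ 0 0 h.toBlocks₁₁)
    (fromBlocks g.toBlocks₁₂ 0 0 h.toBlocks₁₂)
    (fromBlocks g.toBlocks₂₁ 0 0 h.toBlocks₂₁)
    (fromBlocks g.toBlocks₂₂ 0 0 h.toBlocks₂₂)

theorem blkM_mem {α β : Type*} [Fintype α] [DecidableEq α] [Fintype β] [DecidableEq β]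
    {g : Matrix (α ⊕ α) (α ⊕ α) F} (hg : g ∈ symplecticGroup α F)
    {h : Matrix (β ⊕ β) (β ⊕ β) F} (hh : h ∈ symplecticGroup β F) :
    blkM g h ∈ symplecticGroup (α ⊕ β) F := by
  rw [← Matrix.fromBlocks_toBlocks g, SymplecticGroup.fromBlocks_mem_iff] at hg
  rw [← Matrix.fromBlocks_toBlocks h, SymplecticGroup.fromBlocks_mem_iff] at hh
  rw [blkM, SymplecticGroup.fromBlocks_mem_iff]
  simp only [Matrix.fromBlocks_transpose, Matrix.fromBlocks_multiply, Matrix.transpose_zero,
    Matrix.zero_mul, Matrix.mul_zero, add_zero, zero_add]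
  refine ⟨?_, ?_, ?_⟩
  · rw [hg.1, hh.1]
  · rw [hg.2.1, hh.2.1]
  · rw [← Matrix.fromBlocks_one, sub_eq_add_neg, Matrix.fromBlocks_neg, Matrix.fromBlocks_add]
    simp only [neg_zero, add_zero, ← sub_eq_add_neg]
    rw [hg.2.2, hh.2.2]

theorem blkM_one {α β : Type*} [DecidableEq α] [DecidableEq β] :
    blkM (1 : Matrix (α ⊕ α) (α ⊕ α) F) (1 : Matrix (β ⊕ β) (β ⊕ β) F) = 1 := by
  rw [blkM]
  rw [show (1 : Matrix (α ⊕ α) (α ⊕ α) F) = fromBlocks 1 0 0 1 from Matrix.fromBlocks_one.symm,
    show (1 : Matrix (β ⊕ β) (β ⊕ β) F) = fromBlocks 1 0 0 1 from Matrix.fromBlocks_one.symm]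
  simp only [Matrix.toBlocks_fromBlocks₁₁,
      Matrix.toBlocks_fromBlocks₁₂, Matrix.toBlocks_fromBlocks₂₁, Matrix.toBlocks_fromBlocks₂₂]
  rw [Matrix.fromBlocks_one, Matrix.fromBlocks_zero, Matrix.fromBlocks_one]

theorem blkM_mul {α β : Type*} [Fintype α] [Fintype β]
    (g g' : Matrix (α ⊕ α) (α ⊕ α) F) (h h' : Matrix (β ⊕ β) (β ⊕ β) F) :
    blkM (g * g') (h * h') = blkM g h * blkM g' h' := by
  obtain ⟨a, b, c, d, rfl⟩ : ∃ a b c d, g = fromBlocks a b c d :=
    ⟨_, _, _, _, (Matrix.fromBlocks_toBlocks g).symm⟩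
  obtain ⟨a', b', c', d', rfl⟩ : ∃ a b c d, g' = fromBlocks a b c d :=
    ⟨_, _, _, _, (Matrix.fromBlocks_toBlocks g').symm⟩
  obtain ⟨x, y, z, w, rfl⟩ : ∃ a b c d, h = fromBlocks a b c d :=
    ⟨_, _, _, _, (Matrix.fromBlocks_toBlocks h).symm⟩
  obtain ⟨x', y', z', w', rfl⟩ : ∃ a b c d, h' = fromBlocks a b c d :=
    ⟨_, _, _, _, (Matrix.fromBlocks_toBlocks h').symm⟩
  simp only [blkM, Matrix.fromBlocks_multiply, Matrix.toBlocks_fromBlocks₁₁,
    Matrix.toBlocks_fromBlocks₁₂, Matrix.toBlocks_fromBlocks₂₁, Matrix.toBlocks_fromBlocks₂₂,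
    Matrix.zero_mul, Matrix.mul_zero, add_zero, zero_add, Matrix.fromBlocks_add]

theorem blkM_inj {α β : Type*} {g g' : Matrix (α ⊕ α) (α ⊕ α) F} {h h' : Matrix (β ⊕ β) (β ⊕ β) F}
    (he : blkM g h = blkM g' h') : g = g' ∧ h = h' := by
  obtain ⟨h11, h12, h21, h22⟩ := Matrix.fromBlocks_inj.1 he
  have h11 := Matrix.fromBlocks_inj.1 h11
  have h12 := Matrix.fromBlocks_inj.1 h12
  have h21 := Matrix.fromBlocks_inj.1 h21
  have h22 := Matrix.fromBlocks_inj.1 h22
  constructor
  · rw [← Matrix.fromBlocks_toBlocks g, ← Matrix.fromBlocks_toBlocks g']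
    congr 1
    exacts [h11.1, h12.1, h21.1, h22.1]
  · rw [← Matrix.fromBlocks_toBlocks h, ← Matrix.fromBlocks_toBlocks h']
    congr 1
    exacts [h11.2.2.2, h12.2.2.2, h21.2.2.2, h22.2.2.2]

/-- block diagonal embedding -/
def blk (α β : Type*) [Fintype α] [DecidableEq α] [Fintype β] [DecidableEq β] :
    Matrix.symplecticGroup α F × Matrix.symplecticGroup β F →*
      Matrix.symplecticGroup (α ⊕ β) F where
  toFun g := ⟨blkM g.1.1 g.2.1, blkM_mem g.1.2 g.2.2⟩
  map_one' := Subtype.ext blkM_one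
  map_mul' g h := Subtype.ext (blkM_mul g.1.1 h.1.1 g.2.1 h.2.1)

theorem blk_injective (α β : Type*) [Fintype α] [DecidableEq α] [Fintype β] [DecidableEq β] :
    Function.Injective (blk (F := F) α β) := by
  intro g h hgh
  have h1 := blkM_inj (congrArg Subtype.val hgh)
  exact Prod.ext (Subtype.ext h1.1) (Subtype.ext h1.2)

/-- reindexing -/
def reidx {α β : Type*} [Fintype α] [DecidableEq α] [Fintype β] [DecidableEq β] (e : α ≃ β) :
    Matrix.symplecticGroup α F →* Matrix.symplecticGroup β F where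
  toFun g := ⟨g.1.submatrix (Equiv.sumCongr e e).symm (Equiv.sumCongr e e).symm, by
    have h1 := SymplecticGroup.mem_iff.1 g.2
    rw [SymplecticGroup.mem_iff]
    have hJ : J β F = (J α F).submatrix (Equiv.sumCongr e e).symm (Equiv.sumCongr e e).symm := by
      ext i j
      rcases i with i | i <;> rcases j with j | j <;>
        simp [J, Matrix.one_apply]
    rw [hJ, Matrix.transpose_submatrix, Matrix.submatrix_mul_equiv, Matrix.submatrix_mul_equiv, h1]⟩
  map_one' := by
    apply Subtype.ext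
    exact Matrix.submatrix_one_equiv _
  map_mul' g h := by
    apply Subtype.ext
    change (g.1 * h.1).submatrix _ _ = g.1.submatrix _ _ * h.1.submatrix _ _
    rw [Matrix.submatrix_mul_equiv]

theorem reidx_injective {α β : Type*} [Fintype α] [DecidableEq α] [Fintype β] [DecidableEq β]
    (e : α ≃ β) : Function.Injective (reidx (F := F) e) := by
  intro g h hgh
  apply Subtype.ext
  have h1 : g.1.submatrix (Equiv.sumCongr e e).symm (Equiv.sumCongr e e).symm =
      h.1.submatrix (Equiv.sumCongr e e).symm (Equiv.sumCongr e e).symm := congrArg Subtype.val hgh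
  ext i j
  have h2 := congrFun (congrFun h1 (Equiv.sumCongr e e i)) (Equiv.sumCongr e e j)
  simpa only [Matrix.submatrix_apply, Equiv.symm_apply_apply] using h2

/-- two elements in blocks -/
theorem exists_block {n a b r s : ℕ} (h : a + b ≤ n)
    (A : Matrix.symplecticGroup (Fin a) F) (hA : orderOf A = r)
    (B : Matrix.symplecticGroup (Fin b) F) (hB : orderOf B = s) :
    ∃ C : Matrix.symplecticGroup (Fin n) F, orderOf C = Nat.lcm r s := by
  obtain ⟨c, rfl⟩ := Nat.exists_eq_add_of_le h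
  let A' : Matrix.symplecticGroup (Fin (a + b)) F := (reidx finSumFinEquiv) (blk _ _ (A, B))
  have hA' : orderOf A' = Nat.lcm r s := by
    rw [orderOf_injective _ (reidx_injective _), orderOf_injective _ (blk_injective _ _),
      Prod.orderOf_mk, hA, hB]
  refine ⟨(reidx finSumFinEquiv) (blk (Fin (a + b)) (Fin c) (A', 1)), ?_⟩
  rw [orderOf_injective _ (reidx_injective _), orderOf_injective _ (blk_injective _ _),
    Prod.orderOf_mk, hA', orderOf_one]
  exact Nat.lcm_one_right _

end Blocks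

/-! ### elements of given order -/

section Orders

/-- an element of order `q + 1` in `SL_2(q)` -/
theorem exists_SL_two (K : Type*) [Field K] [Finite K] :
    ∃ A : Matrix.SpecialLinearGroup (Fin 2) K, orderOf A = Nat.card K + 1 := by
  have hq : 1 < Nat.card K := Finite.one_lt_card
  obtain ⟨A, hA⟩ := PrimeOrd.exists_GL (F := K) 2 (by norm_num) (Nat.card K ^ 2 - 1) dvd_rfl
  have hfac : Nat.card K ^ 2 - 1 = (Nat.card K + 1) * (Nat.card K - 1) := by
    have := Nat.sq_sub_sq (Nat.card K) 1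
    simpa using this
  have h1 : orderOf (A ^ (Nat.card K - 1)) = Nat.card K + 1 := by
    rw [orderOf_pow' A (by omega), hA, hfac, Nat.gcd_mul_left_left]
    exact Nat.mul_div_cancel _ (by omega)
  have h2 : ((A ^ (Nat.card K - 1) : GL (Fin 2) K) : Matrix (Fin 2) (Fin 2) K).det = 1 := by
    have h3 : Matrix.GeneralLinearGroup.det (A ^ (Nat.card K - 1)) = 1 := by
      rw [map_pow, ← orderOf_dvd_iff_pow_eq_one, ← Nat.card_units]
      exact orderOf_dvd_natCard _
    have := congrArg Units.val h3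
    simpa using this
  let B : Matrix.SpecialLinearGroup (Fin 2) K := ⟨_, h2⟩
  have h3 : Matrix.SpecialLinearGroup.toGL B = A ^ (Nat.card K - 1) := by
    apply Units.ext
    rfl
  refine ⟨B, ?_⟩
  rw [← orderOf_injective (Matrix.SpecialLinearGroup.toGL (n := Fin 2) (R := K))
    Matrix.SpecialLinearGroup.toGL_injective, h3, h1]

/-- an element of order `q ^ m + 1` in `Sp_{2m}(q)` -/
theorem exists_plus (F : Type*) [Field F] [Finite F] (m : ℕ) (hm : m ≠ 0) :
    ∃ A : Matrix.symplecticGroup (Fin m) F, orderOf A = Nat.card F ^ m + 1 := by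
  have : NeZero m := ⟨hm⟩
  obtain ⟨p, hp⟩ := CharP.exists F
  have : Fact p.Prime := ⟨CharP.char_is_prime F p⟩
  obtain ⟨A, hA⟩ := exists_SL_two (FiniteField.Extension F p m)
  let b := Module.finBasisOfFinrankEq F (FiniteField.Extension F p m)
    (FiniteField.finrank_extension F p m)
  refine ⟨ofSLTwo b A, ?_⟩
  rw [orderOf_injective _ (ofSLTwo_injective b), hA, FiniteField.natCard_extension F p m]

/-- an element of order `q ^ m - 1` in `Sp_{2m}(q)` -/
theorem exists_minus (F : Type*) [Field F] [Finite F] (m : ℕ) (hm : m ≠ 0) :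
    ∃ A : Matrix.symplecticGroup (Fin m) F, orderOf A = Nat.card F ^ m - 1 := by
  obtain ⟨A, hA⟩ := PrimeOrd.exists_GL (F := F) m hm (Nat.card F ^ m - 1) dvd_rfl
  refine ⟨levi _ A, ?_⟩
  rw [orderOf_injective _ (levi_injective _), hA]

/-- an element of order `d ∣ N` from an element of order `N` -/
theorem exists_of_dvd {H : Type*} [Monoid H] {N d : ℕ} (hN : N ≠ 0) (hd : d ∣ N)
    (h : ∃ A : H, orderOf A = N) : ∃ A : H, orderOf A = d := by
  obtain ⟨A, hA⟩ := h
  obtain ⟨c, rfl⟩ := hd
  have hc : c ≠ 0 := by rintro rfl; simp at hN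
  refine ⟨A ^ c, ?_⟩
  rw [orderOf_pow' A hc, hA, Nat.gcd_mul_left_left]
  exact Nat.mul_div_cancel _ (Nat.pos_of_ne_zero hc)

/-- the centre of the symplectic group has exponent two -/
theorem center_pow {F : Type*} [Field F] {n : ℕ} (x : Matrix.symplecticGroup (Fin n) F)
    (hx : x ∈ Subgroup.center (Matrix.symplecticGroup (Fin n) F)) : x ^ 2 = 1 := by
  apply Subtype.ext
  change (x : Matrix (Fin n ⊕ Fin n) (Fin n ⊕ Fin n) F) ^ 2 = 1
  rcases ClassicalGeometry.SympInvolutions.center_eq hx with h | h <;> rw [h] <;> simp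

/-- a symplectic matrix is similar to its inverse -/
theorem charpoly_inv {F : Type*} [Field F] {ι : Type*} [Fintype ι] [DecidableEq ι]
    (x : Matrix.symplecticGroup ι F) : (x : Matrix (ι ⊕ ι) (ι ⊕ ι) F).charpoly =
      (x : Matrix (ι ⊕ ι) (ι ⊕ ι) F)⁻¹.charpoly := by
  have h1 : (x : Matrix (ι ⊕ ι) (ι ⊕ ι) F)⁻¹ = (-J ι F) * (x : Matrix (ι ⊕ ι) (ι ⊕ ι) F)ᵀ * J ι F := by
    rw [← SymplecticGroup.coe_inv', SymplecticGroup.coe_inv]
  have h2 : (-J ι F) * J ι F = 1 := by rw [neg_mul, Matrix.J_squared, neg_neg]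
  have h3 : J ι F * (-J ι F) = 1 := by rw [mul_neg, Matrix.J_squared, neg_neg]
  let u : (Matrix (ι ⊕ ι) (ι ⊕ ι) F)ˣ := ⟨-J ι F, J ι F, h2, h3⟩
  rw [h1]
  have h4 := Matrix.charpoly_units_conj u (x : Matrix (ι ⊕ ι) (ι ⊕ ι) F)ᵀ
  rw [Matrix.charpoly_transpose, ← Matrix.coe_units_inv] at h4
  exact h4.symm

end Orders

end Cfsg.Agent.H376.SpEmb
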