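import Cfsg.Agent.LieExceptional.SingerCentralizer
import Cfsg.Agent.LieExceptional.CyclicSylow
set_option linter.all false

/-!
# Elements of prime order and of order a product of two primes in linear groups over finite fields

`V` a finite-dimensional space over the finite field `F`, `q = |F|`, `g` an endomorphism with `g ^ r = 1`,
`r` a prime different from the characteristic. Every `g`-invariant subspace of `range (g - 1)` has
dimension divisible by the order of `q` modulo `r`.
-/

set_option autoImplicit false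

namespace Cfsg.Agent.H376.PrimeOrd

open Module

variable {F V : Type*} [Field F] [Finite F] [AddCommGroup V] [Module F V] [FiniteDimensional F V]

omit [Finite F] [FiniteDimensional F V] in
theorem ker_inf_range {g : Module.End F V} {r : ℕ} (hg : g ^ r = 1) (hr : (r : F) ≠ 0) :
    LinearMap.ker (g - 1) ⊓ LinearMap.range (g - 1) = ⊥ := by
  rw [eq_bot_iff]
  rintro v ⟨hv, u, hu⟩
  have h1 : g v = v := by
    have : g v - v = 0 := hv
    exact sub_eq_zero.1 this
  have h2 : g u = u + v := by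
    have : g u - u = v := hu
    rw [← this]; abel
  have h3 : ∀ i : ℕ, (g ^ i) u = u + (i : F) • v := by
    intro i
    induction i with
    | zero => simp
    | succ i ih =>
      rw [pow_succ', Module.End.mul_apply, ih, map_add, map_smul, h1, h2]
      push_cast
      rw [add_smul, one_smul]
      abel
  have h4 := h3 r
  rw [hg, Module.End.one_apply] at h4
  have h5 : (r : F) • v = 0 := by
    have := left_eq_add.1 h4
    exact this
  exact (smul_eq_zero.1 h5).resolve_left hr

/-- **Invariant subspaces of `range (g - 1)`.** -/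
theorem ord_dvd {g : Module.End F V} {r : ℕ} (hrp : r.Prime) (hg : g ^ r = 1) (hr : (r : F) ≠ 0)
    (U : Submodule F V) (hU : ∀ u ∈ U, g u ∈ U) (hle : U ≤ LinearMap.range (g - 1)) :
    orderOf ((Nat.card F : ℕ) : ZMod r) ∣ finrank F U := by
  haveI : Fact r.Prime := ⟨hrp⟩
  have h1 := LieExceptional.SingerCentralizer.card_modEq_fixed g hg U hU
  have h2 : U ⊓ LinearMap.ker (g - 1) = ⊥ := by
    rw [eq_bot_iff, ← ker_inf_range hg hr]
    intro x hx
    exact ⟨hx.2, hle hx.1⟩
  rw [h2, finrank_bot, pow_zero] at h1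
  rw [orderOf_dvd_iff_pow_eq_one]
  have h3 := (ZMod.natCast_eq_natCast_iff _ _ _).2 h1
  simpa using h3

omit [Finite F] [FiniteDimensional F V] in
theorem range_mem {A B : Module.End F V} (h : A * B = B * A) :
    ∀ u ∈ LinearMap.range (A - 1), B u ∈ LinearMap.range (A - 1) := by
  rintro _ ⟨v, rfl⟩
  refine ⟨B v, ?_⟩
  have h1 : A (B v) = B (A v) := congrArg (fun f : Module.End F V => f v) h
  simp [h1]

omit [Finite F] [FiniteDimensional F V] in
theorem range_ne_bot {A : Module.End F V} (hA : A ≠ 1) : LinearMap.range (A - 1) ≠ ⊥ := by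
  intro h
  apply hA
  rw [LinearMap.range_eq_bot] at h
  exact sub_eq_zero.1 h

/-- **Two commuting elements of prime orders.** -/
theorem two_primes {A B : Module.End F V} {r s : ℕ} (hrp : r.Prime) (hsp : s.Prime)
    (hr : (r : F) ≠ 0) (hs : (s : F) ≠ 0) (hA : A ^ r = 1) (hB : B ^ s = 1) (hA1 : A ≠ 1)
    (hB1 : B ≠ 1) (hAB : A * B = B * A) :
    orderOf ((Nat.card F : ℕ) : ZMod r) + orderOf ((Nat.card F : ℕ) : ZMod s) ≤ finrank F V ∨
    ∃ d, 0 < d ∧ d ≤ finrank F V ∧ orderOf ((Nat.card F : ℕ) : ZMod r) ∣ d ∧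
      orderOf ((Nat.card F : ℕ) : ZMod s) ∣ d := by
  by_cases hU : LinearMap.range (A - 1) ⊓ LinearMap.range (B - 1) = ⊥
  · left
    have h1 := Submodule.finrank_add_finrank_le_of_disjoint (disjoint_iff.2 hU)
    have h2 := ord_dvd hrp hA hr _ (range_mem (A := A) (B := A) rfl) le_rfl
    have h3 := ord_dvd hsp hB hs _ (range_mem (A := B) (B := B) rfl) le_rfl
    have h4 : 0 < finrank F (LinearMap.range (A - 1)) :=
      Module.finrank_pos_iff.2 (Submodule.nontrivial_iff_ne_bot.2 (range_ne_bot hA1))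
    have h5 : 0 < finrank F (LinearMap.range (B - 1)) :=
      Module.finrank_pos_iff.2 (Submodule.nontrivial_iff_ne_bot.2 (range_ne_bot hB1))
    have h6 := Nat.le_of_dvd h4 h2
    have h7 := Nat.le_of_dvd h5 h3
    omega
  · right
    refine ⟨finrank F (LinearMap.range (A - 1) ⊓ LinearMap.range (B - 1) : Submodule F V),
      Module.finrank_pos_iff.2 (Submodule.nontrivial_iff_ne_bot.2 hU), Submodule.finrank_le _, ?_, ?_⟩
    · exact ord_dvd hrp hA hr _ (fun u hu => ⟨range_mem (A := A) (B := A) rfl u hu.1,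
        range_mem (A := B) (B := A) hAB.symm u hu.2⟩) inf_le_left
    · exact ord_dvd hsp hB hs _ (fun u hu => ⟨range_mem (A := A) (B := B) hAB u hu.1,
        range_mem (A := B) (B := B) rfl u hu.2⟩) inf_le_right

/-- one element of prime order -/
theorem one_prime {B : Module.End F V} {s : ℕ} (hsp : s.Prime)
    (hs : (s : F) ≠ 0) (hB : B ^ s = 1) (hB1 : B ≠ 1) :
    orderOf ((Nat.card F : ℕ) : ZMod s) ≤ finrank F V := by
  have h3 := ord_dvd hsp hB hs _ (range_mem (A := B) (B := B) rfl) le_rfl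
  have h5 : 0 < finrank F (LinearMap.range (B - 1)) :=
    Module.finrank_pos_iff.2 (Submodule.nontrivial_iff_ne_bot.2 (range_ne_bot hB1))
  exact (Nat.le_of_dvd h5 h3).trans (Submodule.finrank_le _)

/-! ### lifting through a centre of exponent prime to `m` -/

/-- an element of order `m` of `H/Z`, `Z` of exponent dividing `z` prime to `m`, lifts to an
element `y` of `H` with `y ^ m = 1` and image of order `m` -/
theorem exists_lift {H : Type*} [Group H] (Z : Subgroup H) [Z.Normal] {z m : ℕ}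
    (hZ : ∀ x ∈ Z, x ^ z = 1) (hzm : Nat.Coprime z m) (x : H ⧸ Z) (hx : orderOf x = m) :
    ∃ y : H, y ^ m = 1 ∧ orderOf (QuotientGroup.mk y : H ⧸ Z) = m := by
  obtain ⟨y, rfl⟩ := QuotientGroup.mk_surjective x
  refine ⟨y ^ z, ?_, ?_⟩
  · rw [← pow_mul, mul_comm, pow_mul]
    apply hZ
    rw [← QuotientGroup.eq_one_iff, QuotientGroup.mk_pow, ← hx, pow_orderOf_eq_one]
  · rw [QuotientGroup.mk_pow, Nat.Coprime.orderOf_pow, hx]
    rw [hx]
    exact hzm.symm

/-- an element of order `m` prime to the exponent of `Z` keeps its order modulo `Z` -/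
theorem orderOf_mk {H : Type*} [Group H] (Z : Subgroup H) [Z.Normal] {z m : ℕ}
    (hZ : ∀ x ∈ Z, x ^ z = 1) (hzm : Nat.Coprime z m) (y : H) (hy : orderOf y = m) :
    orderOf (QuotientGroup.mk y : H ⧸ Z) = m := by
  apply Nat.dvd_antisymm
  · rw [← hy]
    exact orderOf_map_dvd (QuotientGroup.mk' Z) y
  · set d := orderOf (QuotientGroup.mk y : H ⧸ Z) with hd
    have h1 : y ^ d ∈ Z := by
      rw [← QuotientGroup.eq_one_iff, QuotientGroup.mk_pow, hd, pow_orderOf_eq_one]
    have h2 := hZ _ h1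
    rw [← pow_mul] at h2
    have h3 := orderOf_dvd_of_pow_eq_one h2
    rw [hy] at h3
    exact hzm.symm.dvd_of_dvd_mul_right h3

/-- elements of order `m ∣ q ^ n - 1` of `GL_n(F)` -/
theorem exists_GL {F : Type*} [Field F] [Finite F] (n : ℕ) (hn : n ≠ 0) (m : ℕ)
    (hm : m ∣ Nat.card F ^ n - 1) : ∃ A : GL (Fin n) F, orderOf A = m := by
  haveI : NeZero n := ⟨hn⟩
  obtain ⟨K, _, _, hK, f, hf⟩ := LieExceptional.CyclicSylow.exists_singer F n
  have h1 : Nat.card Kˣ = Nat.card F ^ n - 1 := by rw [Nat.card_units, hK]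
  obtain ⟨g, hg⟩ := IsCyclic.exists_generator (α := Kˣ)
  have h2 : orderOf g = Nat.card F ^ n - 1 := by
    rw [orderOf_eq_card_of_forall_mem_zpowers hg, h1]
  have hpos : 0 < Nat.card F ^ n - 1 := by
    have : 1 < Nat.card F ^ n := Nat.one_lt_pow hn Finite.one_lt_card
    omega
  obtain ⟨c, hc⟩ := hm
  have hc0 : c ≠ 0 := by rintro rfl; omega
  refine ⟨f (g ^ c), ?_⟩
  rw [orderOf_injective f hf, orderOf_pow' g hc0, h2, hc, Nat.gcd_mul_left_left]
  exact Nat.mul_div_cancel _ (Nat.pos_of_ne_zero hc0)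

/-- elements of order `m ∣ q ^ n - 1`, `m` prime to `q - 1`, of `SL_n(F)` -/
theorem exists_SL {F : Type*} [Field F] [Finite F] (n : ℕ) (hn : n ≠ 0) (m : ℕ)
    (hm : m ∣ Nat.card F ^ n - 1) (hq : Nat.Coprime (Nat.card F - 1) m) :
    ∃ A : Matrix.SpecialLinearGroup (Fin n) F, orderOf A = m := by
  obtain ⟨A, hA⟩ := exists_GL n hn m hm
  have h1 : Matrix.GeneralLinearGroup.det A = 1 := by
    have h2 : orderOf (Matrix.GeneralLinearGroup.det A) ∣ m := by
      rw [← hA]; exact orderOf_map_dvd _ A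
    have h3 : orderOf (Matrix.GeneralLinearGroup.det A) ∣ Nat.card F - 1 := by
      rw [← Nat.card_units]; exact orderOf_dvd_natCard _
    have h4 := Nat.dvd_gcd h3 h2
    rw [hq] at h4
    exact orderOf_eq_one_iff.1 (Nat.dvd_one.1 h4)
  have h2 : (A : Matrix (Fin n) (Fin n) F).det = 1 := by
    have := congrArg Units.val h1
    simpa using this
  have h3 : Matrix.SpecialLinearGroup.toGL (⟨A, h2⟩ : Matrix.SpecialLinearGroup (Fin n) F) = A := by
    apply Units.ext
    rfl
  have h4 := orderOf_injective (Matrix.SpecialLinearGroup.toGL (n := Fin n) (R := F))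
    Matrix.SpecialLinearGroup.toGL_injective (⟨A, h2⟩ : Matrix.SpecialLinearGroup (Fin n) F)
  rw [h3, hA] at h4
  exact ⟨⟨A, h2⟩, h4.symm⟩

end Cfsg.Agent.H376.PrimeOrd
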