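import Cfsg.Agent.H376.CocAlt_m3
import Cfsg.Agent.H376.WordEmb
import Cfsg.Agent.LieClassical.FieldTransfer
import Mathlib
import Cfsg.Agent.H381.Cover_m3
import Cfsg.Agent.OddOrderLocal.Thm34
import Cfsg.Agent.FastGrp
import Cfsg.Agent.Prune
set_option linter.all false

section
prune_inst 0x7f00000000000000000000000000000000000000000000000000000000000000000000000000000000000000000000000000000000000000000000000000000000000000000000000000000000000000003fffffffffffffffffffffffffffbeffbdffffffff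

-- part: H376/PslPair
section
set_option linter.all false
open scoped Cfsg.Agent.FastGrp

/-!
# An element of prime order of `PSL_{n+1}(q)` normalising and not centralising a `p`-subgroup

The affine subgroup: `(B, v)` is the matrix `[[B, v], [0, 1]]`.
-/

set_option autoImplicit false

namespace Cfsg.Agent.H376.PslPair

open Matrix

section

variable {F : Type*} [Field F] {n : ℕ}

/-- the linear part -/
def lin (n : ℕ) : Matrix.SpecialLinearGroup (Fin n) F →* Matrix.SpecialLinearGroup (Fin n ⊕ Fin 1) F where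
  toFun B := ⟨fromBlocks B.1 0 0 1, by rw [det_fromBlocks_zero₂₁, B.2, det_one, mul_one]⟩
  map_one' := by
    apply Subtype.ext
    change fromBlocks (1 : Matrix (Fin n) (Fin n) F) 0 0 1 = 1
    exact fromBlocks_one
  map_mul' A B := by
    apply Subtype.ext
    change fromBlocks (A.1 * B.1) 0 0 1 = fromBlocks A.1 0 0 1 * fromBlocks B.1 0 0 1
    rw [fromBlocks_multiply]
    simp

/-- the translations -/
def tr (n : ℕ) : Multiplicative (Fin n → F) →* Matrix.SpecialLinearGroup (Fin n ⊕ Fin 1) F where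
  toFun v := ⟨fromBlocks 1 (replicateCol (Fin 1) v.toAdd) 0 1, by
    rw [det_fromBlocks_zero₂₁, det_one, det_one, mul_one]⟩
  map_one' := by
    apply Subtype.ext
    change fromBlocks (1 : Matrix (Fin n) (Fin n) F) (replicateCol (Fin 1) (0 : Fin n → F)) 0 1 = 1
    rw [replicateCol_zero]
    exact fromBlocks_one
  map_mul' v w := by
    apply Subtype.ext
    change fromBlocks 1 (replicateCol (Fin 1) (v.toAdd + w.toAdd)) 0 1 =
      fromBlocks 1 (replicateCol (Fin 1) v.toAdd) 0 1 * fromBlocks 1 (replicateCol (Fin 1) w.toAdd) 0 1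
    rw [fromBlocks_multiply, replicateCol_add]
    simp [add_comm]

theorem lin_mul_tr (B : Matrix.SpecialLinearGroup (Fin n) F) (v : Fin n → F) :
    lin n B * tr n (Multiplicative.ofAdd v) = tr n (Multiplicative.ofAdd (B.1 *ᵥ v)) * lin n B := by
  apply Subtype.ext
  change fromBlocks B.1 0 0 1 * fromBlocks 1 (replicateCol (Fin 1) v) 0 1 =
    fromBlocks 1 (replicateCol (Fin 1) (B.1 *ᵥ v)) 0 1 * fromBlocks B.1 0 0 1
  rw [fromBlocks_multiply, fromBlocks_multiply]
  simp [replicateCol_mulVec]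

/-- the homomorphism onto `PSL` -/
def Phi (n : ℕ) (F : Type*) [Field F] : Matrix.SpecialLinearGroup (Fin n ⊕ Fin 1) F →*
    Matrix.ProjectiveSpecialLinearGroup (Fin n ⊕ Fin 1) F := QuotientGroup.mk' _

theorem Phi_eq_one {x : Matrix.SpecialLinearGroup (Fin n ⊕ Fin 1) F} (h : Phi n F x = 1) :
    ∃ c : F, x.1 = scalar _ c := by
  have h1 : x ∈ Subgroup.center (Matrix.SpecialLinearGroup (Fin n ⊕ Fin 1) F) :=
    (QuotientGroup.eq_one_iff x).1 h
  obtain ⟨c, -, hc⟩ := Matrix.SpecialLinearGroup.mem_center_iff.1 h1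
  exact ⟨c, hc.symm⟩

theorem lin_ne_one {B : Matrix.SpecialLinearGroup (Fin n) F} (hB : B ≠ 1) : Phi n F (lin n B) ≠ 1 := by
  intro h
  obtain ⟨c, hc⟩ := Phi_eq_one h
  apply hB
  change fromBlocks B.1 0 0 1 = scalar _ c at hc
  have h1 : c = 1 := by
    have := congrFun (congrFun hc (Sum.inr 0)) (Sum.inr 0)
    simpa using this.symm
  apply Subtype.ext
  ext i j
  have := congrFun (congrFun hc (Sum.inl i)) (Sum.inl j)
  rw [h1, fromBlocks_apply₁₁, scalar_apply] at this
  rw [this]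
  by_cases hij : i = j
  · subst hij; simp
  · rw [diagonal_apply_ne _ (fun h => hij (Sum.inl_injective h))]
    change (0 : F) = (1 : Matrix (Fin n) (Fin n) F) i j
    rw [one_apply_ne hij]

theorem tr_ne_one {v : Fin n → F} (hv : v ≠ 0) : Phi n F (tr n (Multiplicative.ofAdd v)) ≠ 1 := by
  intro h
  obtain ⟨c, hc⟩ := Phi_eq_one h
  apply hv
  change fromBlocks 1 (replicateCol (Fin 1) v) 0 1 = scalar _ c at hc
  ext i
  have := congrFun (congrFun hc (Sum.inl i)) (Sum.inr 0)
  rw [fromBlocks_apply₁₂, scalar_apply, diagonal_apply_ne _ (by simp)] at this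
  exact this

theorem exists_pair_sum {p w : ℕ} [hp : Fact p.Prime] [CharP F p] (hw : w.Prime)
    {B : Matrix.SpecialLinearGroup (Fin n) F} (hB : orderOf B = w) :
    ∃ (A : Subgroup (Matrix.ProjectiveSpecialLinearGroup (Fin n ⊕ Fin 1) F))
      (y a : Matrix.ProjectiveSpecialLinearGroup (Fin n ⊕ Fin 1) F), IsPGroup p A ∧ orderOf y = w ∧
      y ∈ Subgroup.normalizer (A : Set (Matrix.ProjectiveSpecialLinearGroup (Fin n ⊕ Fin 1) F)) ∧ a ∈ A ∧
      ¬ Commute y a := by
  have hB1 : B ≠ 1 := by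
    rintro rfl
    rw [orderOf_one] at hB
    exact hw.one_lt.ne hB
  obtain ⟨v, hv⟩ : ∃ v : Fin n → F, B.1 *ᵥ v ≠ v := by
    by_contra hcon
    push Not at hcon
    apply hB1
    apply Subtype.ext
    apply Matrix.ext_of_mulVec_single
    intro i
    rw [hcon]
    change _ = (1 : Matrix (Fin n) (Fin n) F) *ᵥ _
    rw [one_mulVec]
  refine ⟨((Phi n F).comp (tr n)).range, Phi n F (lin n B), Phi n F (tr n (Multiplicative.ofAdd v)), ?_, ?_, ?_,
    ⟨_, rfl⟩, ?_⟩
  · rintro ⟨_, x, rfl⟩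
    refine ⟨1, Subtype.ext ?_⟩
    change ((Phi n F).comp (tr n) x) ^ (p ^ 1) = 1
    rw [← map_pow, pow_one]
    have h1 : x ^ p = 1 := by
      apply Multiplicative.toAdd.injective
      rw [toAdd_pow, toAdd_one]
      ext i
      rw [Pi.smul_apply, nsmul_eq_mul, CharP.cast_eq_zero, zero_mul, Pi.zero_apply]
    rw [h1, map_one]
  · have := Fact.mk hw
    refine orderOf_eq_prime ?_ (lin_ne_one hB1)
    rw [← map_pow, ← map_pow, ← hB, pow_orderOf_eq_one, map_one, map_one]
  · have key : ∀ (C : Matrix.SpecialLinearGroup (Fin n) F) (x : Multiplicative (Fin n → F)),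
        Phi n F (lin n C) * Phi n F (tr n x) * (Phi n F (lin n C))⁻¹ ∈ ((Phi n F).comp (tr n)).range := by
      intro C x
      refine ⟨Multiplicative.ofAdd (C.1 *ᵥ x.toAdd), ?_⟩
      have h1 := lin_mul_tr C x.toAdd
      rw [← map_mul]
      change Phi n F (tr n _) = Phi n F (lin n C * tr n (Multiplicative.ofAdd x.toAdd)) * _
      rw [h1, map_mul, mul_assoc, mul_inv_cancel, mul_one]
    rw [Subgroup.mem_normalizer_iff]
    intro z
    constructor
    · rintro ⟨x, rfl⟩
      exact key B x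
    · rintro ⟨x, hx⟩
      obtain ⟨x', hx'⟩ := key B⁻¹ x
      refine ⟨x', hx'.trans ?_⟩
      change _ = z
      have h2 : Phi n F (tr n x) = Phi n F (lin n B) * z * (Phi n F (lin n B))⁻¹ := hx
      rw [h2, map_inv, map_inv]
      group
  · intro hc
    have h1 : Phi n F (tr n (Multiplicative.ofAdd (B.1 *ᵥ v - v))) = 1 := by
      have h2 : tr n (Multiplicative.ofAdd (B.1 *ᵥ v - v)) =
          tr n (Multiplicative.ofAdd (B.1 *ᵥ v)) * (tr n (Multiplicative.ofAdd v))⁻¹ := by
        rw [← map_inv, ← map_mul, sub_eq_add_neg, ofAdd_add, ofAdd_neg]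
      rw [h2, map_mul, map_inv, mul_inv_eq_one]
      have h3 := congrArg (Phi n F) (lin_mul_tr B v)
      rw [map_mul, map_mul, hc.eq] at h3
      exact (mul_right_cancel h3).symm
    exact tr_ne_one (sub_ne_zero.2 hv) h1

/-- reindexing -/
noncomputable def pslSum (n : ℕ) (F : Type*) [Field F] : Matrix.ProjectiveSpecialLinearGroup (Fin n ⊕ Fin 1) F ≃*
    Matrix.ProjectiveSpecialLinearGroup (Fin (n + 1)) F :=
  LieClassical.FieldTransfer.centralQuotientCongr (MulEquiv.ofBijective (WordEmb.reidx (F := F) finSumFinEquiv)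
    ⟨WordEmb.reidx_injective _, fun B => ⟨WordEmb.reidx finSumFinEquiv.symm B, by
      apply Subtype.ext
      ext i j
      change B.1 _ _ = B.1 i j
      simp⟩⟩)

/-- transport -/
theorem transport {P R : Type*} [Group P] [Group R] (e : P ≃* R) {p w : ℕ}
    (h : ∃ (A : Subgroup P) (y a : P), IsPGroup p A ∧ orderOf y = w ∧ y ∈ Subgroup.normalizer (A : Set P) ∧ a ∈ A ∧
      ¬ Commute y a) :
    ∃ (A : Subgroup R) (y a : R), IsPGroup p A ∧ orderOf y = w ∧ y ∈ Subgroup.normalizer (A : Set R) ∧ a ∈ A ∧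
      ¬ Commute y a := by
  obtain ⟨A, y, a, h1, h2, h3, h4, h5⟩ := h
  refine ⟨A.map e.toMonoidHom, e y, e a, h1.map _, by rw [MulEquiv.orderOf_eq, h2], ?_, ⟨a, h4, rfl⟩, fun h => h5 ?_⟩
  · rw [Subgroup.mem_normalizer_iff] at h3 ⊢
    intro z
    obtain ⟨x, rfl⟩ := e.surjective z
    constructor
    · rintro ⟨b, hb, hbx⟩
      obtain rfl : b = x := e.injective hbx
      exact ⟨y * b * y⁻¹, (h3 b).1 hb, by simp⟩
    · rintro ⟨b, hb, hbx⟩
      have h6 : b = y * x * y⁻¹ := e.injective (by rw [map_mul, map_mul, map_inv]; exact hbx)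
      exact ⟨x, (h3 x).2 (h6 ▸ hb), rfl⟩
  · have h6 : e (y * a) = e (a * y) := by rw [map_mul, map_mul]; exact h.eq
    exact e.injective h6

/-- **The pair in `PSL_{n+1}(q)`.** -/
theorem exists_pair [Fintype F] {p w : ℕ} [hp : Fact p.Prime] [CharP F p] (hw : w.Prime) (hn : 2 ≤ n)
    (hord : orderOf ((Fintype.card F : ℕ) : ZMod w) = n) :
    ∃ (A : Subgroup (Matrix.ProjectiveSpecialLinearGroup (Fin (n + 1)) F))
      (y a : Matrix.ProjectiveSpecialLinearGroup (Fin (n + 1)) F), IsPGroup p A ∧ orderOf y = w ∧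
      y ∈ Subgroup.normalizer (A : Set (Matrix.ProjectiveSpecialLinearGroup (Fin (n + 1)) F)) ∧ a ∈ A ∧
      ¬ Commute y a := by
  have := Fact.mk hw
  have h1 : w ∣ Fintype.card F ^ n - 1 := by
    rw [← ZMod.natCast_eq_zero_iff, Nat.cast_sub (Nat.one_le_pow _ _ Fintype.card_pos), Nat.cast_pow, ← hord,
      pow_orderOf_eq_one, Nat.cast_one, sub_self]
  have h2 : w ∣ Nat.card (Matrix.SpecialLinearGroup (Fin n) F) :=
    Coc.sl_dvd hn hw (Or.inr ⟨n, by omega, le_rfl, h1⟩)
  obtain ⟨B, hB⟩ := exists_prime_orderOf_dvd_card' w h2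
  exact transport (pslSum n F) (exists_pair_sum hw hB)

end

end Cfsg.Agent.H376.PslPair
end

-- part: H376/Shult
section
set_option linter.all false
open scoped Cfsg.Agent.FastGrp

/-!
# An element of order `t w` from a solvable kernel of order divisible by `t`

`K ⊴ G` solvable, `S ≤ G/K` simple; `t ∣ |K|`; `y ∈ S` of odd prime order `w ∤ |K|` normalises and does not centralise a
`v`-subgroup of `S`, `v` odd, `v ≠ t, w`: then `G` has an element of order `t w`.
-/

set_option autoImplicit false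

namespace Cfsg.Agent.H376.Shult

open Subgroup
open Cfsg (IsPiHallOf)
open Cfsg.Agent.H381.Cover

universe u

theorem orderOf_eq_of_lift {G : Type u} [Group G] [Finite G] (K : Subgroup G) [K.Normal] {w : ℕ} (hw : w.Prime)
    (hwK : ¬ w ∣ Nat.card ↥K) {g : G} {z : G ⧸ K} (hz : orderOf z = w) (hgz : QuotientGroup.mk' K g = z)
    (hg : ∃ m, orderOf g = w ^ m) : orderOf g = w := by
  obtain ⟨m, hm⟩ := hg
  have h1 : g ^ w ∈ K := by
    rw [← QuotientGroup.eq_one_iff, QuotientGroup.mk_pow]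
    change (QuotientGroup.mk' K g) ^ w = 1
    rw [hgz, ← hz, pow_orderOf_eq_one]
  have h2 : g ^ w = 1 := by
    rw [← orderOf_eq_one_iff]
    have h3 : orderOf (g ^ w) ∣ Nat.card ↥K := by
      have := orderOf_dvd_natCard (⟨g ^ w, h1⟩ : ↥K)
      rwa [Subgroup.orderOf_mk] at this
    have h4 : orderOf (g ^ w) ∣ w ^ m := by
      rw [← hm]
      exact orderOf_pow_dvd w
    exact Nat.eq_one_of_dvd_coprimes (Nat.Coprime.pow_left m ((hw.coprime_iff_not_dvd).2 hwK)) h4 h3
  have h3 : orderOf g ∣ w := orderOf_dvd_of_pow_eq_one h2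
  rcases (Nat.dvd_prime hw).1 h3 with h4 | h4
  · exfalso
    rw [orderOf_eq_one_iff] at h4
    rw [h4, map_one] at hgz
    rw [← hgz, orderOf_one] at hz
    exact hw.one_lt.ne hz
  · exact h4

/-- **The Shult step.** -/
theorem exists_orderOf_mul {G : Type u} [Group G] [Finite G] (K : Subgroup G) [K.Normal] (hK : Group.IsSolvable ↥K)
    (S : Subgroup (G ⧸ K)) [S.Normal] (hS : IsSimpleGroup ↥S) {t w v : ℕ} (ht : t.Prime) (hw : w.Prime) (hv : v.Prime)
    (hw2 : w ≠ 2) (hv2 : v ≠ 2) (htw : t ≠ w) (htv : t ≠ v) (hvw : v ≠ w) (htK : t ∣ Nat.card ↥K)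
    (hwK : ¬ w ∣ Nat.card ↥K) (A : Subgroup ↥S) (hA : IsPGroup v A) (y : ↥S) (hy : orderOf y = w)
    (hyA : y ∈ normalizer (A : Set ↥S)) {a : ↥S} (ha : a ∈ A) (hya : ¬ Commute y a) :
    ∃ g : G, orderOf g = t * w := by
  have htf : Fact t.Prime := ⟨ht⟩
  have hvf : Fact v.Prime := ⟨hv⟩
  let f : G →* G ⧸ K := QuotientGroup.mk' K
  let ι : ↥S →* G ⧸ K := S.subtype
  have hker : f.ker = K := QuotientGroup.ker_mk' K
  have hsol : Group.IsSolvable f.ker := by rw [hker]; exact hK
  have htop : Cov f ι ⊤ := fun z _ => by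
    obtain ⟨g, hg⟩ := QuotientGroup.mk'_surjective K z
    exact ⟨g, mem_top g, hg⟩
  obtain ⟨V, hV⟩ := Cfsg.Agent.OddOrderLocal.HallPi.exists_isPiHallOf hK ({t} : Set ℕ)
  have hVt : IsPGroup t V := (Cfsg.Agent.OddOrderLocal.PiCoreOf.isPi_singleton_iff ht V).mp hV.2.1
  have hM : Cov f ι (⊤ ⊓ normalizer (V : Set G)) :=
    htop.frattini hK le_top (by rw [normalizer_eq_top]) (by rw [hker]) hV
  rw [top_inf_eq] at hM
  set M := normalizer (V : Set G) with hMdef
  -- an element of order `t` of `V`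
  have hVne : t ∣ Nat.card V := by
    obtain ⟨n, hn⟩ := IsPGroup.iff_card.1 hVt
    rcases Nat.eq_zero_or_pos n with h0 | h0
    · exfalso
      rw [h0, pow_zero] at hn
      have h1 : V = ⊥ := (Subgroup.card_eq_one).1 hn
      have h2 := hV.2.2 t ht (Set.mem_singleton t)
      rw [h1, relIndex_bot_left] at h2
      exact h2 htK
    · rw [hn]
      exact dvd_pow_self t h0.ne'
  obtain ⟨x, hx⟩ := exists_prime_orderOf_dvd_card' t hVne
  have hx' : orderOf (x : G) = t := by rw [Subgroup.orderOf_coe, hx]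
  have key : ∀ g : G, orderOf g = w → (∃ z ∈ V, orderOf z = t ∧ Commute g z) → ∃ g : G, orderOf g = t * w := by
    rintro g hg ⟨z, -, hz, hc⟩
    refine ⟨z * g, ?_⟩
    rw [hc.symm.orderOf_mul_eq_mul_orderOf_of_coprime (by rw [hz, hg]; exact (Nat.coprime_primes ht hw).2 htw), hz, hg]
  have hyι : orderOf (ι y) = w := by rw [← hy]; exact orderOf_injective ι S.subtype_injective y
  obtain ⟨Y, hYM, g, hgM, hY, hYA, hgY, hgy, hgo⟩ := hM.lift_pair hsol hv hw hA hyA (k := 1) (by rw [hy, pow_one])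
  have hg : orderOf g = w := orderOf_eq_of_lift K hw hwK hyι hgy hgo
  by_cases hfix : V ⊓ centralizer (zpowers g : Set G) = ⊥
  · -- `[Y, g]` centralises `V`
    obtain ⟨n, hn⟩ := IsPGroup.iff_card.1 hY
    obtain ⟨m, hm⟩ := IsPGroup.iff_card.1 hVt
    have hRc : Nat.card (zpowers g) = w := by rw [Nat.card_zpowers, hg]
    have hnil := hY.isNilpotent
    have hnil' := hVt.isNilpotent
    have hc := Cfsg.Agent.OddOrderLocal.Thm34.commutator_le_centralizer_of_fixedFree Y (zpowers g) V inferInstance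
      (by rw [hn]; exact (hv.odd_of_ne_two hv2).pow) (by rw [hRc]; exact hw) (by rw [hRc]; exact hw2)
      (by rw [zpowers_le]; exact hgY) (by
        rw [hn, hRc]; exact Nat.Coprime.pow_left n ((Nat.coprime_primes hv hw).2 hvw)) hYM
      (by rw [zpowers_le]; exact hgM) inferInstance (by
        rw [hn, hm]; exact Nat.Coprime.pow m n ((Nat.coprime_primes ht hv).2 htv)) (by
        rw [hm, hRc]; exact Nat.Coprime.pow_left m ((Nat.coprime_primes ht hw).2 htw)) hfix
    have hcov := hM.centralizer_of_commutator (P := V) le_rfl hYM hYA hgM hgy ha hya hc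
    obtain ⟨g', hg'M, hg'y, hg'o⟩ := hcov.lift_elem hw (x := y) (k := 1) (by rw [hy, pow_one])
    have hg' : orderOf g' = w := orderOf_eq_of_lift K hw hwK hyι hg'y hg'o
    exact key g' hg' ⟨x, x.2, hx', ((mem_centralizer_iff.1 (mem_inf.1 hg'M).2) x x.2).symm⟩
  · -- an element of `V` centralised by `g`
    have hW : IsPGroup t (V ⊓ centralizer (zpowers g : Set G) : Subgroup G) := hVt.to_le inf_le_left
    have hWt : t ∣ Nat.card (V ⊓ centralizer (zpowers g : Set G) : Subgroup G) := by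
      obtain ⟨n, hn⟩ := IsPGroup.iff_card.1 hW
      rcases Nat.eq_zero_or_pos n with h0 | h0
      · rw [h0, pow_zero] at hn
        exact absurd ((Subgroup.card_eq_one).1 hn) hfix
      · rw [hn]
        exact dvd_pow_self t h0.ne'
    obtain ⟨z, hz⟩ := exists_prime_orderOf_dvd_card' t hWt
    obtain ⟨hzV, hzC⟩ := mem_inf.1 z.2
    exact key g hg ⟨z, hzV, by rw [Subgroup.orderOf_coe, hz], (mem_centralizer_iff.1 hzC) g (mem_zpowers g)⟩

end Cfsg.Agent.H376.Shult
end
end
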