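import Cfsg.Agent.H376.CocAlt_m3
import Cfsg.Agent.H437.SporNum
import Mathlib
import Cfsg.Agent.H376.ElimOrth_mg
import Cfsg.Agent.H376.ExcTab
import Cfsg.Agent.H168.ExcCoc
import Cfsg.Agent.H341.ThreeList_m3
import Cfsg.Agent.H425.ChrEnd
import Cfsg.Agent.LieClassical.FieldTransfer
import Cfsg.Agent.H376.PslPair_m3
import Cfsg.Agent.H163.PG.PslAut
import Cfsg.Agent.H481.TBound
import Cfsg.Agent.FastGrp
import Cfsg.Agent.Prune
set_option linter.all false
prune_inst 0x7fffe9ffbbfb7ddfffff7e7fffbcddfdfbbfbfffefdff9cbffe46bff9bffcb1a49e5fbad8febb9fe1e96c21c18ec7b53f9ffeeffea6bd87ffffd1ff45ffbffcfffffbd1971f58c3e0f3c6ffef3f0778e7f3fffffffffffffffffffffffffffbeffbfffffffff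
open scoped Cfsg.Agent.FastGrp

-- part: H376/ElimAlt
section
/-!
# `L = PSL_N(3)`, `N ≥ 9`, or `PSL_N(5)`, `N ≥ 11`: `S` is not alternating, and not sporadic
-/

set_option autoImplicit false

namespace Cfsg.Agent.H376.LPsl

open Finset Cfsg.Agent.H376.Coc Cfsg.Agent.H376.Num

variable {F : Type*} [Field F] [Fintype F] {q N : ℕ}

theorem alt_dvd {m s : ℕ} (hs : s.Prime) (hs2 : s ≠ 2) (h : s ≤ m) :
    s ∣ Nat.card (alternatingGroup (Fin m)) := by
  have h1 : Nontrivial (Fin m) := Fin.nontrivial_iff_two_le.2 (hs.two_le.trans h)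
  have h2 := two_mul_nat_card_alternatingGroup (α := Fin m)
  have h3 : s ∣ Nat.card (Equiv.Perm (Fin m)) := by
    rw [Nat.card_eq_fintype_card, Fintype.card_perm, Fintype.card_fin]
    exact (Nat.Prime.dvd_factorial hs).2 h
  rw [← h2] at h3
  exact (hs.dvd_mul.1 h3).resolve_left
    (fun h4 => hs2 ((Nat.prime_dvd_prime_iff_eq hs Nat.prime_two).1 h4))

/-- **alternating groups** -/
theorem elim_alt (hF : Fintype.card F = q) (hq : (q = 3 ∧ 9 ≤ N) ∨ (q = 5 ∧ 11 ≤ N)) {m : ℕ}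
    (H : Hyp (alternatingGroup (Fin m)) (Matrix.ProjectiveSpecialLinearGroup (Fin N) F)) : False := by
  obtain ⟨x, hx, hx71, hxS⟩ := exists_big hF hq H
  have hm := alt_dvd_le hx hxS
  rcases hq with ⟨rfl, hN⟩ | ⟨rfl, hN⟩
  · obtain ⟨h1, D, hD, h31, h2⟩ := thr hF (by omega) (by omega) H g3_31.1
      (alt_dvd (by norm_num) (by norm_num) (by omega))
    have h3 := alt_coclique_thirtyOne hD h31 (by omega)
    rw [g3_31.2] at h1 h2
    omega
  · obtain ⟨h1, D, hD, h31, h2⟩ := thr hF (by omega) (by omega) H g5_23.1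
      (alt_dvd (by norm_num) (by norm_num) (by omega))
    have h3 := alt_coclique_twentyThree hD h31 (by omega)
    rw [g5_23.2] at h1 h2
    omega

theorem spor_smooth : ∀ n ∈ H437.sporList, n ∣ Nat.factorial 71 := by
  decide +kernel

/-- **sporadic groups** -/
theorem elim_spor (hF : Fintype.card F = q) (hq : (q = 3 ∧ 9 ≤ N) ∨ (q = 5 ∧ 11 ≤ N))
    {S : Type*} [Group S] (hS : Nat.card S ∈ H437.sporList)
    (H : Hyp S (Matrix.ProjectiveSpecialLinearGroup (Fin N) F)) : False := by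
  obtain ⟨x, hx, hx71, hxS⟩ := exists_big hF hq H
  have h1 : x ≤ 71 := (Nat.Prime.dvd_factorial hx).1 (hxS.trans (spor_smooth _ hS))
  omega

end Cfsg.Agent.H376.LPsl
end

-- part: H376/ElimOrthB
section
/-!
# `L = PSL_N(3)`, `N ≥ 9`, or `PSL_N(5)`, `N ≥ 11`: `S = PΩ^±_{2m}(u)` has the characteristic of `L`
-/

set_option autoImplicit false

namespace Cfsg.Agent.H376.LPsl

open Finset Cfsg.Agent.H376.Coc Cfsg.Agent.H376.Num Cfsg.Agent.H72.AdjOrth Cfsg.Agent.H72.AdjCoc

theorem g3_379 : Good 3 379 ∧ orderOf ((3 : ℕ) : ZMod 379) = 378 :=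
  good_of [2, 3, 7] (by norm_num) (by norm_num) (by norm_num) (by norm_num) (by norm_num)
    (by decide +kernel) (mem_of_factors _ (by decide +kernel) (by norm_num)) (by decide +kernel)

theorem g5_2521 : Good 5 2521 ∧ orderOf ((5 : ℕ) : ZMod 2521) = 84 :=
  good_of [2, 3, 7] (by norm_num) (by norm_num) (by norm_num) (by norm_num) (by norm_num)
    (by decide +kernel) (mem_of_factors _ (by decide +kernel) (by norm_num)) (by decide +kernel)

theorem prime_of_prod {r : ℕ} (hr : r.Prime) (L : List ℕ) (hL : ∀ l ∈ L, l.Prime) {n : ℕ}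
    (hn : n ∣ L.prod ^ 10) (h : r ∣ n) : r ∈ L :=
  mem_of_factors L hn hL r hr h

/-- primes with order at most 10 -/
theorem cand_three_ten {r : ℕ} (hr : r.Prime) (h3 : r ≠ 3)
    (h : Good 3 r → orderOf ((3 : ℕ) : ZMod r) ≤ 10) : r ∈ [2, 5, 7, 11, 13, 41, 61, 757, 1093] := by
  have hnd : ¬ r ∣ 3 := fun hd => h3 ((Nat.prime_dvd_prime_iff_eq hr Nat.prime_three).1 hd)
  have hpos : 0 < orderOf ((3 : ℕ) : ZMod r) := ord_pos hr
    ((Nat.coprime_primes Nat.prime_three hr).2 (Ne.symm h3))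
  by_cases h2 : r = 2
  · rw [h2]; decide
  have hle : orderOf ((3 : ℕ) : ZMod r) ≤ 10 := by
    by_cases hg : 2 ≤ orderOf ((3 : ℕ) : ZMod r)
    · exact h ⟨hr, h2, hnd, hg⟩
    · omega
  have hcases : orderOf ((3 : ℕ) : ZMod r) ∣ 6 ∨ orderOf ((3 : ℕ) : ZMod r) ∣ 7 ∨
      orderOf ((3 : ℕ) : ZMod r) ∣ 8 ∨ orderOf ((3 : ℕ) : ZMod r) ∣ 9 ∨
      orderOf ((3 : ℕ) : ZMod r) ∣ 10 := by
    interval_cases orderOf ((3 : ℕ) : ZMod r) <;> decide
  rcases hcases with h4 | h4 | h4 | h4 | h4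
  all_goals
    have h5 := (ord_dvd_iff (q := 3) (by norm_num)).1 h4
    exact prime_of_prod hr _ (by norm_num only [_root_.List.mem_cons, _root_.List.not_mem_nil, _root_.or_false, _root_.forall_eq_or_imp, _root_.forall_eq, _root_.and_self]) (by norm_num only [_root_.List.prod_cons, _root_.List.prod_nil, _root_.mul_one]) h5

theorem cand_three_five {r : ℕ} (hr : r.Prime) (h3 : r ≠ 3)
    (h : Good 3 r → orderOf ((3 : ℕ) : ZMod r) ≤ 5) : r = 2 ∨ r = 5 ∨ r = 13 ∨ r = 11 := by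
  by_cases h4 : Good 3 r → orderOf ((3 : ℕ) : ZMod r) ≤ 4
  · rcases cand_three hr h3 h4 with h | h | h <;> simp [h]
  · push Not at h4
    have h5 : orderOf ((3 : ℕ) : ZMod r) = 5 := by have := h h4.1; omega
    have h6 := (ord_dvd_iff (q := 3) (s := r) (d := 5) (by norm_num)).1 (by rw [h5])
    have h7 := prime_of_prod hr [2, 11] (by norm_num) (by norm_num) h6
    simp only [List.mem_cons, List.not_mem_nil, or_false] at h7
    rcases h7 with h7 | h7 <;> simp [h7]

theorem cand_five_five {r : ℕ} (hr : r.Prime) (h5' : r ≠ 5)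
    (h : Good 5 r → orderOf ((5 : ℕ) : ZMod r) ≤ 5) :
    r = 2 ∨ r = 3 ∨ r = 13 ∨ r = 31 ∨ r = 11 ∨ r = 71 := by
  by_cases h4 : Good 5 r → orderOf ((5 : ℕ) : ZMod r) ≤ 4
  · rcases cand_five hr h5' h4 with h | h | h | h <;> simp [h]
  · push Not at h4
    have h5 : orderOf ((5 : ℕ) : ZMod r) = 5 := by have := h h4.1; omega
    have h6 := (ord_dvd_iff (q := 5) (s := r) (d := 5) (by norm_num)).1 (by rw [h5])
    have h7 := prime_of_prod hr [2, 11, 71] (by norm_num) (by norm_num) h6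
    simp only [List.mem_cons, List.not_mem_nil, or_false] at h7
    rcases h7 with h7 | h7 | h7 <;> simp [h7]

variable {F : Type*} [Field F] [Fintype F] {q N : ℕ} {E : Type*} [Field E] [Fintype E]
  {m : ℕ} {δ : ℤ} {S : Type*} [Group S]

/-- through a prime of `S`, all members good -/
theorem thr' (hF : Fintype.card F = q) (hq : 3 ≤ q) (hN : 4 ≤ N)
    (H : Hyp S (Matrix.ProjectiveSpecialLinearGroup (Fin N) F)) {x : ℕ} (hx : Good q x)
    (hxS : x ∣ Nat.card S) : orderOf ((q : ℕ) : ZMod x) ≤ N ∧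
      ∃ D : Finset ℕ, IsCoc S D ∧ x ∈ D ∧ min (orderOf ((q : ℕ) : ZMod x)) (N - N / 2) ≤ D.card + 1 ∧
        ∀ s ∈ D, Good q s := by
  have hxN := (dvd_iff hF (by omega) hx).1 (H.dvd x hx.prime hxS)
  refine ⟨hxN, ?_⟩
  obtain ⟨C, hC, hxC, hcard, hgood, -⟩ := exists_thr hF hq hN hx hxN
  by_cases h3 : 3 ≤ C.card
  · obtain ⟨D, hDC, hD, h1, h2⟩ := H.exists_coc hC h3
    exact ⟨D, hD, h2 x hxC hxS, by omega, fun s hs => hgood s (hDC hs)⟩
  · refine ⟨{x}, ⟨?_, ?_, ?_⟩, mem_singleton_self x, ?_, ?_⟩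
    · intro p hp
      rw [mem_singleton.1 hp]; exact hx.prime
    · intro p hp
      rw [mem_singleton.1 hp]; exact hxS
    · intro p hp r hr hne
      exact absurd ((mem_singleton.1 hp).trans (mem_singleton.1 hr).symm) hne
    · rw [card_singleton]
      omega
    · intro s hs
      rw [mem_singleton.1 hs]; exact hx

/-- a test prime -/
theorem orth_test (hF : Fintype.card F = q) (hq : 3 ≤ q) (hN : 5 ≤ N)
    (O : OSide S E m δ)
    (H : Hyp S (Matrix.ProjectiveSpecialLinearGroup (Fin N) F))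
    {x j : ℕ} (hx : Good q x) (hj : 1 ≤ j) (hxE : ¬ x ∣ Nat.card E)
    (hxj : x ∣ Nat.card E ^ (2 * j) - 1) (hm : j < m) :
    orderOf ((q : ℕ) : ZMod x) ≤ N ∧ (m < j + 3 ∨
      min (orderOf ((q : ℕ) : ZMod x)) (N - N / 2) ≤ 4 + j + j / 2) := by
  have hcard : 1 ≤ Nat.card E := Nat.card_pos
  have heta := eta_two_mul hcard hj hxj
  have hxS := O.dvd x hx.prime hx.odd hxE (Or.inl (by omega))
  obtain ⟨h1, D, hD, hxD, hc⟩ := thr hF hq (by omega) H hx hxS
  refine ⟨h1, ?_⟩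
  by_cases h2 : m < j + 3
  · exact Or.inl h2
  right
  have hw : wO (Nat.card E) x = eta (ee (Nat.card E) x) := if_neg (not_or.2 ⟨hx.odd, hxE⟩)
  have h3 := O.thr hD hxD (by omega)
  rw [hw] at h3
  omega

set_option maxHeartbeats 2000000 in
/-- **`PΩ^±_{2m}(u)` in cross characteristic** -/
theorem elim_orth (hF : Fintype.card F = q) (hq : (q = 3 ∧ 9 ≤ N) ∨ (q = 5 ∧ 11 ≤ N))
    (O : OSide S E m δ)
    (H : Hyp S (Matrix.ProjectiveSpecialLinearGroup (Fin N) F)) :
    ∃ f : ℕ, f ≠ 0 ∧ Fintype.card E = q ^ f := by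
  classical
  obtain ⟨p, hc⟩ := CharP.exists E
  obtain ⟨f, hp, hf⟩ := FiniteField.card E p
  have := Fact.mk hp
  have hm4 := O.hm
  have hfE : Nat.card E = p ^ (f : ℕ) := by rw [Nat.card_eq_fintype_card, hf]
  have hpE : p ∣ Nat.card E := by rw [hfE]; exact dvd_pow_self p f.ne_zero
  have huniq : ∀ s : ℕ, s.Prime → s ∣ Nat.card E → s = p := by
    intro s hs h
    rw [hfE] at h
    exact (Nat.prime_dvd_prime_iff_eq hs hp).1 (hs.dvd_of_dvd_pow h)
  have hpS : p ∣ Nat.card S := O.dvdp p hp hpE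
  by_cases hpq : p = q
  · exact ⟨f, f.ne_zero, by rw [hf, hpq]⟩
  exfalso
  -- the test in terms of `p`
  have test : ∀ {x j k : ℕ}, (Good q x ∧ orderOf ((q : ℕ) : ZMod x) = k) → 1 ≤ j → x ≠ p →
      x ∣ p ^ (2 * j) - 1 → j < m → k ≤ N ∧ (m < j + 3 ∨ min k (N - N / 2) ≤ 4 + j + j / 2) := by
    intro x j k hx hj hxp hxj hjm
    have h1 := orth_test hF (by omega) (by omega) O H hx.1 hj
      (fun h => hxp (huniq x hx.1.prime h)) (by rw [hfE]; exact pow_dvd_aux hxj) hjm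
    rwa [hx.2] at h1
  have hgp : Good q p → orderOf ((q : ℕ) : ZMod p) ≤ N := fun h =>
    (dvd_iff hF (by omega) h).1 (H.dvd p hp hpS)
  -- the top coclique
  obtain ⟨D, hD, hDc, hDg⟩ := top hF (by omega) (by omega) H
  have h2D : 2 ∉ D := fun h => (hDg 2 h).1.odd rfl
  rcases Nat.lt_or_ge N 11 with hN11 | hN11
  · -- `q = 3`, `N = 9, 10`
    obtain ⟨rfl, hN9⟩ : q = 3 ∧ 9 ≤ N := by
      rcases hq with h | h
      · exact h
      · omega
    have hmem := cand_three_ten hp hpq (fun h => (hgp h).trans (by omega))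
    simp only [List.mem_cons, List.not_mem_nil, or_false] at hmem
    rcases hmem with rfl | rfl | rfl | rfl | rfl | rfl | rfl | rfl | rfl
    · -- `p = 2`
      have hDp : ∀ s ∈ D, ¬ s ∣ Nat.card E := fun s hs h => h2D ((huniq s (hD.prime s hs) h) ▸ hs)
      have hsm := O.small hD h2D hDp
      rcases Nat.lt_or_ge 4 m with h | h
      · have := test g3_17 (j := 4) (by norm_num) (by norm_num) (by norm_num) h
        omega
      · have hm : m = 4 := by omega
        rcases O.delta with hδ | hδ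
        · have := hsm.2.1 hm hδ
          (clear * - hDc hN9 this; omega)
        · subst hm
          have hxE : ¬ 17 ∣ Nat.card E := fun h => by
            have := huniq 17 (by norm_num) h
            omega
          have hcard : 1 ≤ Nat.card E := Nat.card_pos
          have h17 : 17 ∣ Nat.card E ^ (2 * 4) - 1 := by
            rw [hfE]; exact pow_dvd_aux (by norm_num)
          have heta := eta_two_mul hcard (by norm_num) h17
          have hdvd := ee_dvd hcard h17
          have hS : 17 ∣ Nat.card S := by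
            refine O.dvd 17 (by norm_num) (by norm_num) hxE ?_
            rcases Nat.lt_or_ge (eta (ee (Nat.card E) 17)) 4 with h4 | h4
            · exact Or.inl h4
            · right
              refine ⟨by omega, ?_⟩
              rw [hδ, sg]
              split_ifs with h5
              · rfl
              · exfalso
                rw [eta, if_neg h5] at h4
                have h6 : ee (Nat.card E) 17 ∣ 1 := by
                  have h7 : Nat.Coprime (ee (Nat.card E) 17) (2 ^ 3) :=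
                    Nat.Coprime.pow_right _ (Nat.coprime_two_right.2 (Nat.not_even_iff_odd.1 h5))
                  exact h7.dvd_of_dvd_mul_left (by simpa using hdvd)
                have := Nat.le_of_dvd (by norm_num) h6
                omega
          have := (dvd_iff hF (by omega) g3_17.1).1 (H.dvd 17 (by norm_num) hS)
          rw [g3_17.2] at this
          omega
    · have := test g3_31 (j := 3) (by norm_num) (by norm_num) (by norm_num) (by omega)
      omega
    · have := test g3_19 (j := 3) (by norm_num) (by norm_num) (by norm_num) (by omega)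
      omega
    · have := test g3_19 (j := 3) (by norm_num) (by norm_num) (by norm_num) (by omega)
      omega
    · have := test g3_17 (j := 2) (by norm_num) (by norm_num) (by norm_num) (by omega)
      omega
    · have := test g3_29 (j := 2) (by norm_num) (by norm_num) (by norm_num) (by omega)
      omega
    · have := test g3_31 (j := 1) (by norm_num) (by norm_num) (by norm_num) (by omega)
      omega
    · have := test g3_379 (j := 1) (by norm_num) (by norm_num) (by norm_num) (by omega)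
      omega
    · have := test g3_547 (j := 1) (by norm_num) (by norm_num) (by norm_num) (by omega)
      omega
  · -- `N ≥ 11`
    have hchar : Good q p → orderOf ((q : ℕ) : ZMod p) ≤ 5 := by
      intro hg
      obtain ⟨h1, D', hD', hpD', hc', hg'⟩ := thr' hF (by omega) (by omega) H hg hpS
      have := O.thr_char hD' hpD' hpE hg.odd (fun h => (hg' 2 h).odd rfl)
      omega
    have hDp : ∀ s ∈ D, ¬ s ∣ Nat.card E := by
      intro s hs h
      obtain rfl := huniq s (hD.prime s hs) h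
      have h1 := hDg s hs
      have h2 := hchar h1.1
      omega
    obtain ⟨s4, -, s5, s6, s7, s8, s9⟩ := O.small hD h2D hDp
    have hm5 : 5 ≤ m := by
      by_contra hlt
      have := s4 (by omega)
      (clear * - hDc hN11 this; omega)
    rcases hq with ⟨rfl, hN⟩ | ⟨rfl, hN⟩
    · rcases cand_three_five hp hpq hchar with rfl | rfl | rfl | rfl
      · have h1 := test g3_17 (j := 4) (by norm_num) (by norm_num) (by norm_num) (by omega)
        have hm8 : 8 ≤ m := by (clear * - hDc s5 s6 s7 hm5 h1; omega)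
        have h2 := test g3_31 (j := 5) (by norm_num) (by norm_num) (by norm_num) (by omega)
        (clear * - hm8 h2; omega)
      · have h1 := test g3_31 (j := 3) (by norm_num) (by norm_num) (by norm_num) (by omega)
        (clear * - hDc s5 hm5 h1; omega)
      · have h1 := test g3_17 (j := 2) (by norm_num) (by norm_num) (by norm_num) (by omega)
        (clear * - hm5 h1; omega)
      · have h1 := test g3_19 (j := 3) (by norm_num) (by norm_num) (by norm_num) (by omega)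
        (clear * - hDc s5 hm5 h1; omega)
    · rcases cand_five_five hp hpq hchar with rfl | rfl | rfl | rfl | rfl | rfl
      · have h1 := test g5_17 (j := 4) (by norm_num) (by norm_num) (by norm_num) (by omega)
        have hm8 : 8 ≤ m := by (clear * - hDc s5 s6 s7 hm5 h1; omega)
        have h2 := test g5_127 (j := 7) (by norm_num) (by norm_num) (by norm_num) (by omega)
        (clear * - h1 hm8 h2; omega)
      · have h1 := test g5_41 (j := 4) (by norm_num) (by norm_num) (by norm_num) (by omega)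
        have hm8 : 8 ≤ m := by (clear * - hDc s5 s6 s7 hm5 h1; omega)
        have h2 := test g5_61 (j := 5) (by norm_num) (by norm_num) (by norm_num) (by omega)
        (clear * - hm8 h2; omega)
      · have h1 := test g5_17 (j := 2) (by norm_num) (by norm_num) (by norm_num) (by omega)
        (clear * - hm5 h1; omega)
      · have h1 := test g5_37 (j := 2) (by norm_num) (by norm_num) (by norm_num) (by omega)
        (clear * - hm5 h1; omega)
      · have h1 := test g5_61 (j := 2) (by norm_num) (by norm_num) (by norm_num) (by omega)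
        (clear * - hm5 h1; omega)
      · have h1 := test g5_2521 (j := 2) (by norm_num) (by norm_num) (by norm_num) (by omega)
        (clear * - hm5 h1; omega)

/-- **`PΩ⁺`** -/
theorem elim_oplus (hF : Fintype.card F = q) (hq : (q = 3 ∧ 9 ≤ N) ∨ (q = 5 ∧ 11 ≤ N))
    (hm : 4 ≤ m) (H : Hyp (Cfsg.POmega E (Cfsg.quadFormPlus m E))
      (Matrix.ProjectiveSpecialLinearGroup (Fin N) F)) :
    ∃ f : ℕ, f ≠ 0 ∧ Fintype.card E = q ^ f :=
  elim_orth hF hq (oside_plus hm) H

/-- **`PΩ⁻`** -/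
theorem elim_ominus (hF : Fintype.card F = q) (hq : (q = 3 ∧ 9 ≤ N) ∨ (q = 5 ∧ 11 ≤ N))
    (hm : 4 ≤ m) {a b : E}
    (hab : ∀ z₁ z₂ : E, z₁ ^ 2 + a * z₁ * z₂ + b * z₂ ^ 2 = 0 → z₁ = 0 ∧ z₂ = 0)
    (H : Hyp (Cfsg.POmega E (Cfsg.quadFormMinus (m - 1) E a b))
      (Matrix.ProjectiveSpecialLinearGroup (Fin N) F)) :
    ∃ f : ℕ, f ≠ 0 ∧ Fintype.card E = q ^ f :=
  elim_orth hF hq (oside_minus hm hab) H

end Cfsg.Agent.H376.LPsl
end

-- part: H376/ElimExc
section
/-!
# `L = PSL_N(3)`, `N ≥ 9`, or `PSL_N(5)`, `N ≥ 11`: exceptional `S` has the characteristic of `L`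
-/

set_option autoImplicit false

namespace Cfsg.Agent.H376.LPsl

open Finset Cfsg.Agent.H376.Coc Cfsg.Agent.H420.QR Cfsg.Agent.H376.ExcTab Cfsg.Agent.OrdDiv Cfsg.Agent.H436

variable {F : Type*} [Field F] [Fintype F] {q N : ℕ} {S : Type*} [Group S]

/-- the primes of `S` -/
theorem exists_pow_of_dvd (hF : Fintype.card F = q) (hq : (q = 3 ∧ 9 ≤ N) ∨ (q = 5 ∧ 11 ≤ N))
    (H : Hyp S (Matrix.ProjectiveSpecialLinearGroup (Fin N) F)) {r : ℕ} (hr : r.Prime) (hrS : r ∣ Nat.card S)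
    (hrq : r ≠ q) : ∃ k, 1 ≤ k ∧ k ≤ N ∧ r ∣ q ^ k - 1 := by
  by_cases h2 : r = 2
  · refine ⟨1, le_rfl, by omega, ?_⟩
    rcases hq with ⟨h, -⟩ | ⟨h, -⟩ <;> subst h <;> subst h2 <;> decide
  · have hqp : q.Prime := by
      rcases hq with ⟨h, -⟩ | ⟨h, -⟩ <;> subst h <;> norm_num
    have hcop : ¬ r ∣ q := fun h => hrq ((Nat.prime_dvd_prime_iff_eq hr hqp).1 h)
    have := Fact.mk hr
    have h0 : ((q : ℕ) : ZMod r) ≠ 0 := by
      rw [Ne, ZMod.natCast_eq_zero_iff]
      exact hcop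
    have hpos : 0 < orderOf ((q : ℕ) : ZMod r) := by
      rw [orderOf_pos_iff, isOfFinOrder_iff_pow_eq_one]
      exact ⟨r - 1, by have := hr.two_le; omega, ZMod.pow_card_sub_one_eq_one h0⟩
    have hone : orderOf ((q : ℕ) : ZMod r) ≠ 1 := by
      intro h
      rw [orderOf_eq_one_iff] at h
      have h3 : r ∣ q - 1 := by
        rw [← ZMod.natCast_eq_zero_iff, Nat.cast_sub (by omega), h, Nat.cast_one, sub_self]
      rcases hq with ⟨h, -⟩ | ⟨h, -⟩
      · subst h
        exact h2 ((Nat.prime_dvd_prime_iff_eq hr Nat.prime_two).1 h3)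
      · subst h
        have h4 : r ∣ 2 ^ 2 := h3
        exact h2 ((Nat.prime_dvd_prime_iff_eq hr Nat.prime_two).1 (hr.dvd_of_dvd_pow h4))
    have hg : Good q r := ⟨hr, h2, hcop, by omega⟩
    refine ⟨orderOf ((q : ℕ) : ZMod r), hpos, (dvd_iff hF (by omega) hg).1 (H.dvd r hr hrS), ?_⟩
    rw [← ZMod.natCast_eq_zero_iff, Nat.cast_sub (Nat.one_le_pow _ _ (by omega)), Nat.cast_pow,
      pow_orderOf_eq_one, Nat.cast_one, sub_self]

/-- the bound for `N` from a cover -/
theorem le_of_cover (hF : Fintype.card F = q) (hq : (q = 3 ∧ 9 ≤ N) ∨ (q = 5 ∧ 11 ≤ N))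
    (H : Hyp S (Matrix.ProjectiveSpecialLinearGroup (Fin N) F)) {p f c : ℕ} (hp : p.Prime)
    (hcov : Cover S (p ^ f) c) : N - N / 2 ≤ c + 2 ∧ (p ≤ 3 → N - N / 2 ≤ c + 1) := by
  classical
  obtain ⟨D, hD, hcard, hgood⟩ := top hF (by omega) (by omega) H
  have h3 : ∀ r ∈ D, 3 < r := fun r hr => by
    obtain ⟨a, b, -⟩ := hgood r hr
    have := lt_of_good a
    omega
  have key : (D.erase p).card ≤ c := by
    refine hcov.card_le _ (fun r hr => ?_) fun r hr s hs hrs => ?_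
    · obtain ⟨hrp, hrC⟩ := Finset.mem_erase.1 hr
      refine ⟨hD.prime r hrC, h3 r hrC, fun hd => hrp ?_, hD.dvd r hrC⟩
      exact (Nat.prime_dvd_prime_iff_eq (hD.prime r hrC) hp).1 ((hD.prime r hrC).dvd_of_dvd_pow hd)
    · exact hD.indep r (Finset.mem_of_mem_erase hr) s (Finset.mem_of_mem_erase hs) hrs
  have h2 := Finset.pred_card_le_card_erase (s := D) (a := p)
  refine ⟨by omega, fun hp3 => ?_⟩
  have h4 : p ∉ D := fun h => by have := h3 p h; omega
  rw [Finset.erase_eq_of_notMem h4] at key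
  omega

/-- **The elimination with a table.** -/
theorem false_of_chk (hF : Fintype.card F = q) (hq : (q = 3 ∧ 9 ≤ N) ∨ (q = 5 ∧ 11 ≤ N))
    (H : Hyp S (Matrix.ProjectiveSpecialLinearGroup (Fin N) F)) {p f d M : ℕ} (hp : p.Prime) (hpq : p ≠ q)
    (hf : f ≠ 0) (hd : d ∣ 12) (hdp : ¬ p ∣ d) (heq : d * Nat.card S = M) (hpM : p ∣ M) {N0 : ℕ} (hN : N ≤ N0)
    {ch : List (ℕ × ℕ × List (ℕ × ℕ))} {fs : List (List (ℕ × ℕ))} {ws : List (ℕ × ℕ × ℕ)} {degs ex : List ℕ}
    (h : chk q N0 ch fs ws degs ex = true) (hex : p ∉ ex) (hdeg : ∀ j ∈ degs, (p ^ f) ^ j - 1 ∣ M) : False := by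
  have hpS : p ∣ Nat.card S := by
    rw [← heq] at hpM
    exact (hp.dvd_mul.1 hpM).resolve_left hdp
  obtain ⟨k, hk1, hkN, hk⟩ := exists_pow_of_dvd hF hq H hp hpS hpq
  rcases chk_spec (by omega) h hp hk1 (hkN.trans hN) hk with h1 | ⟨x, j, hx, hx5, hxq, hj, hxj, hxk⟩
  · exact hex h1
  · have h2 : x ∣ M := by
      refine dvd_trans ?_ (hdeg j hj)
      refine dvd_trans hxj ?_
      rw [← pow_mul, mul_comm f j, pow_mul]
      have h3 := Nat.sub_dvd_pow_sub_pow (p ^ j) 1 f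
      rwa [one_pow] at h3
    have h3 : x ∣ Nat.card S := by
      rw [← heq] at h2
      refine (hx.dvd_mul.1 h2).resolve_left fun h4 => ?_
      have h5 : x ∣ 2 ^ 2 * 3 := h4.trans hd
      rcases hx.dvd_mul.1 h5 with h6 | h6
      · have := (Nat.prime_dvd_prime_iff_eq hx Nat.prime_two).1 (hx.dvd_of_dvd_pow h6)
        omega
      · have := (Nat.prime_dvd_prime_iff_eq hx Nat.prime_three).1 h6
        omega
    obtain ⟨k', h4, h5, h6⟩ := exists_pow_of_dvd hF hq H hx h3 hxq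
    exact hxk k' h4 (h5.trans hN) h6

/-- the final step for the untwisted names -/
theorem step (hF : Fintype.card F = q) (hq : (q = 3 ∧ 9 ≤ N) ∨ (q = 5 ∧ 11 ≤ N))
    (H : Hyp S (Matrix.ProjectiveSpecialLinearGroup (Fin N) F)) {u d M a R : ℕ} (hu : IsPrimePow u)
    (hd : d ∣ 12) (hdu : ∀ p : ℕ, p.Prime → p ∣ u → ¬ p ∣ d) (heq : d * Nat.card S = M) (hM : M = u ^ a * R)
    (ha : a ≠ 0) {degs : List ℕ} (hdeg : ∀ j ∈ degs, u ^ j - 1 ∣ M)
    (hchk : ∀ p : ℕ, p.Prime → p ∣ u → p ≠ q → ∃ (N0 : ℕ) (ch : List (ℕ × ℕ × List (ℕ × ℕ)))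
      (fs : List (List (ℕ × ℕ))) (ws : List (ℕ × ℕ × ℕ)) (ex : List ℕ), N ≤ N0 ∧ chk q N0 ch fs ws degs ex = true ∧
      p ∉ ex) : ∃ f : ℕ, f ≠ 0 ∧ u = q ^ f := by
  obtain ⟨p, f, hp, hf, rfl⟩ := hu
  have hpn := hp.nat_prime
  by_cases hpq : p = q
  · exact ⟨f, hf.ne', by rw [hpq]⟩
  · exfalso
    have hpu : p ∣ p ^ f := dvd_pow_self p hf.ne'
    obtain ⟨N0, ch, fs, ws, ex, h1, h2, h3⟩ := hchk p hpn hpu hpq
    refine false_of_chk hF hq H hpn hpq hf.ne' hd (hdu p hpn hpu) heq ?_ h1 h2 h3 hdeg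
    rw [hM, ← pow_mul]
    exact (dvd_pow_self p (Nat.mul_ne_zero hf.ne' ha)).mul_right _

theorem not_dvd_gcd_sub {u p n : ℕ} (hu : 1 ≤ u) (hp : p.Prime) (h : p ∣ u) : ¬ p ∣ Nat.gcd n (u - 1) := by
  intro h1
  have h2 := h1.trans (Nat.gcd_dvd_right _ _)
  have h3 : p ∣ 1 := by
    have := Nat.dvd_sub h h2
    rwa [Nat.sub_sub_self hu] at this
  exact hp.one_lt.ne' (Nat.dvd_one.1 h3)

theorem not_dvd_gcd_add {u p n : ℕ} (hp : p.Prime) (h : p ∣ u) : ¬ p ∣ Nat.gcd n (u + 1) := by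
  intro h1
  have h2 := h1.trans (Nat.gcd_dvd_right _ _)
  have h3 : p ∣ 1 := (Nat.dvd_add_right h).1 h2
  exact hp.one_lt.ne' (Nat.dvd_one.1 h3)

/-- **`G₂(u)`** -/
theorem elim_g2 (hF : Fintype.card F = q) (hq : (q = 3 ∧ 9 ≤ N) ∨ (q = 5 ∧ 11 ≤ N))
    (H : Hyp S (Matrix.ProjectiveSpecialLinearGroup (Fin N) F)) {u : ℕ} (hg : IsNamed (.g2 u) S) :
    ∃ f : ℕ, f ≠ 0 ∧ u = q ^ f := by
  obtain ⟨E, _, _, hE, ⟨e⟩⟩ := hg.real
  have hcov : Cover S u 3 := hE ▸ Cover.congr e H168.ExcCover.g2_cover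
  have heq : 1 * Nat.card S = u ^ 6 * ((u ^ 2 - 1) * (u ^ 6 - 1)) := hg.eq
  refine step hF hq H hg.cond.2 (by norm_num) (fun p hp _ h => hp.one_lt.ne' (Nat.dvd_one.1 h)) heq rfl (by norm_num)
    (degs := d2) (fun j hj => ?_) fun p hp hpu hpq => ?_
  · simp only [d2, List.mem_cons, List.not_mem_nil, or_false] at hj
    rcases hj with rfl | rfl
    · exact (dvd_mul_right _ _).mul_left _
    · exact (dvd_mul_left _ _).mul_left _
  · obtain ⟨p', f, hp', hf, rfl⟩ := hg.cond.2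
    obtain rfl : p = p' := (Nat.prime_dvd_prime_iff_eq hp hp'.nat_prime).1 (hp.dvd_of_dvd_pow hpu)
    obtain ⟨b1, b2⟩ := le_of_cover hF hq H hp hcov
    have hq3 : q = 3 := by (clear * - hq b1; omega)
    subst hq3
    refine ⟨10, ch3, fs3.take 10, w3g2, [2], by (clear * - b1; omega), c3g2, fun h => ?_⟩
    rw [List.mem_singleton] at h
    have := b2 (by omega)
    omega

/-- **`³D₄(u)`** -/
theorem elim_td4 (hF : Fintype.card F = q) (hq : (q = 3 ∧ 9 ≤ N) ∨ (q = 5 ∧ 11 ≤ N))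
    (H : Hyp S (Matrix.ProjectiveSpecialLinearGroup (Fin N) F)) {u : ℕ} (hg : IsNamed (.td4 u) S) :
    ∃ f : ℕ, f ≠ 0 ∧ u = q ^ f := by
  obtain ⟨E, _, _, hE, ⟨e⟩⟩ := hg.real
  have hu : IsPrimePow u := hg.cond
  have hcov : Cover S u 3 := Cover.congr e (H168.TwCover.td4_cover hE hu)
  have heq : 1 * Nat.card S = u ^ 12 * ((u ^ 2 - 1) * (u ^ 6 - 1) * (u ^ 8 + u ^ 4 + 1)) := hg.eq
  refine step hF hq H hu (by norm_num) (fun p hp _ h => hp.one_lt.ne' (Nat.dvd_one.1 h)) heq rfl (by norm_num)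
    (degs := d2) (fun j hj => ?_) fun p hp hpu hpq => ?_
  · simp only [d2, List.mem_cons, List.not_mem_nil, or_false] at hj
    rcases hj with rfl | rfl
    · exact ((dvd_mul_right _ _).mul_right _).mul_left _
    · exact ((dvd_mul_left _ _).mul_right _).mul_left _
  · obtain ⟨p', f, hp', hf, rfl⟩ := hu
    obtain rfl : p = p' := (Nat.prime_dvd_prime_iff_eq hp hp'.nat_prime).1 (hp.dvd_of_dvd_pow hpu)
    obtain ⟨b1, b2⟩ := le_of_cover hF hq H hp hcov
    have hq3 : q = 3 := by (clear * - hq b1; omega)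
    subst hq3
    refine ⟨10, ch3, fs3.take 10, w3g2, [2], by (clear * - b1; omega), c3g2, fun h => ?_⟩
    rw [List.mem_singleton] at h
    have := b2 (by omega)
    omega

/-- the table for `F₄`, `E₆`, `²E₆` -/
theorem tab6 (hq : (q = 3 ∧ 9 ≤ N) ∨ (q = 5 ∧ 11 ≤ N)) (hN : N - N / 2 ≤ 5 + 2) (p : ℕ) :
    ∃ (N0 : ℕ) (ch : List (ℕ × ℕ × List (ℕ × ℕ)))
      (fs : List (List (ℕ × ℕ))) (ws : List (ℕ × ℕ × ℕ)) (ex : List ℕ), N ≤ N0 ∧ chk q N0 ch fs ws d6 ex = true ∧
      p ∉ ex := by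
  rcases hq with ⟨h, h9⟩ | ⟨h, h9⟩ <;> subst h
  · exact ⟨14, ch3, fs3.take 14, w3e6, [], by omega, c3e6, List.not_mem_nil⟩
  · exact ⟨14, ch5, fs5.take 14, w5e6, [], by omega, c5e6, List.not_mem_nil⟩

/-- **`F₄(u)`** -/
theorem elim_f4 (hF : Fintype.card F = q) (hq : (q = 3 ∧ 9 ≤ N) ∨ (q = 5 ∧ 11 ≤ N))
    (H : Hyp S (Matrix.ProjectiveSpecialLinearGroup (Fin N) F)) {u : ℕ} (hg : IsNamed (.f4 u) S) :
    ∃ f : ℕ, f ≠ 0 ∧ u = q ^ f := by
  obtain ⟨E, _, _, hE, ⟨e⟩⟩ := hg.real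
  have hu : IsPrimePow u := hg.cond
  have hcov : Cover S u 5 := hE ▸ Cover.congr e H168.ExcCover.f4_cover
  have heq : 1 * Nat.card S = u ^ 24 * ((u ^ 2 - 1) * (u ^ 6 - 1) * (u ^ 8 - 1) * (u ^ 12 - 1)) := hg.eq
  refine step hF hq H hu (by norm_num) (fun p hp _ h => hp.one_lt.ne' (Nat.dvd_one.1 h)) heq rfl (by norm_num)
    (degs := d6) (fun j hj => ?_) fun p hp hpu hpq => ?_
  · simp only [d6, List.mem_cons, List.not_mem_nil, or_false] at hj
    rcases hj with rfl | rfl | rfl | rfl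
    · exact (((dvd_mul_right _ _).mul_right _).mul_right _).mul_left _
    · exact (((dvd_mul_left _ _).mul_right _).mul_right _).mul_left _
    · exact ((dvd_mul_left _ _).mul_right _).mul_left _
    · exact (dvd_mul_left _ _).mul_left _
  · obtain ⟨p', f, hp', hf, rfl⟩ := hu
    obtain rfl : p = p' := (Nat.prime_dvd_prime_iff_eq hp hp'.nat_prime).1 (hp.dvd_of_dvd_pow hpu)
    exact tab6 hq (le_of_cover hF hq H hp hcov).1 p

/-- **`E₆(u)`** -/
theorem elim_e6 (hF : Fintype.card F = q) (hq : (q = 3 ∧ 9 ≤ N) ∨ (q = 5 ∧ 11 ≤ N))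
    (H : Hyp S (Matrix.ProjectiveSpecialLinearGroup (Fin N) F)) {u : ℕ} (hg : IsNamed (.e6 u) S) :
    ∃ f : ℕ, f ≠ 0 ∧ u = q ^ f := by
  obtain ⟨E, _, _, hE, ⟨e⟩⟩ := hg.real
  have hu : IsPrimePow u := hg.cond
  have hcov : Cover S u 5 := hE ▸ Cover.congr e H168.ExcCover.e6_cover
  have heq : Nat.gcd 3 (u - 1) * Nat.card S = u ^ 36 * ((u ^ 2 - 1) * (u ^ 5 - 1) * (u ^ 6 - 1) * (u ^ 8 - 1) *
    (u ^ 9 - 1) * (u ^ 12 - 1)) := hg.eq
  refine step hF hq H hu ((Nat.gcd_dvd_left _ _).trans (by norm_num))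
    (fun p hp h => not_dvd_gcd_sub (le_of_lt hu.one_lt) hp h) heq rfl (by norm_num)
    (degs := d6) (fun j hj => ?_) fun p hp hpu hpq => ?_
  · simp only [d6, List.mem_cons, List.not_mem_nil, or_false] at hj
    rcases hj with rfl | rfl | rfl | rfl
    · exact (((((dvd_mul_right _ _).mul_right _).mul_right _).mul_right _).mul_right _).mul_left _
    · exact ((((dvd_mul_left _ _).mul_right _).mul_right _).mul_right _).mul_left _
    · exact (((dvd_mul_left _ _).mul_right _).mul_right _).mul_left _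
    · exact (dvd_mul_left _ _).mul_left _
  · obtain ⟨p', f, hp', hf, rfl⟩ := hu
    obtain rfl : p = p' := (Nat.prime_dvd_prime_iff_eq hp hp'.nat_prime).1 (hp.dvd_of_dvd_pow hpu)
    exact tab6 hq (le_of_cover hF hq H hp hcov).1 p

/-- **`²E₆(u)`** -/
theorem elim_te6 (hF : Fintype.card F = q) (hq : (q = 3 ∧ 9 ≤ N) ∨ (q = 5 ∧ 11 ≤ N))
    (H : Hyp S (Matrix.ProjectiveSpecialLinearGroup (Fin N) F)) {u : ℕ} (hg : IsNamed (.te6 u) S) :
    ∃ f : ℕ, f ≠ 0 ∧ u = q ^ f := by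
  obtain ⟨E, _, _, hE, ⟨e⟩⟩ := hg.real
  have hu : IsPrimePow u := hg.cond
  have hcov : Cover S u 5 := Cover.congr e (H168.TwCover.te6_cover hE hu)
  have heq : Nat.gcd 3 (u + 1) * Nat.card S = u ^ 36 * ((u ^ 2 - 1) * (u ^ 5 + 1) * (u ^ 6 - 1) * (u ^ 8 - 1) *
    (u ^ 9 + 1) * (u ^ 12 - 1)) := hg.eq
  refine step hF hq H hu ((Nat.gcd_dvd_left _ _).trans (by norm_num))
    (fun p hp h => not_dvd_gcd_add hp h) heq rfl (by norm_num)
    (degs := d6) (fun j hj => ?_) fun p hp hpu hpq => ?_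
  · simp only [d6, List.mem_cons, List.not_mem_nil, or_false] at hj
    rcases hj with rfl | rfl | rfl | rfl
    · exact (((((dvd_mul_right _ _).mul_right _).mul_right _).mul_right _).mul_right _).mul_left _
    · exact ((((dvd_mul_left _ _).mul_right _).mul_right _).mul_right _).mul_left _
    · exact (((dvd_mul_left _ _).mul_right _).mul_right _).mul_left _
    · exact (dvd_mul_left _ _).mul_left _
  · obtain ⟨p', f, hp', hf, rfl⟩ := hu
    obtain rfl : p = p' := (Nat.prime_dvd_prime_iff_eq hp hp'.nat_prime).1 (hp.dvd_of_dvd_pow hpu)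
    exact tab6 hq (le_of_cover hF hq H hp hcov).1 p

/-- **`E₇(u)`** -/
theorem elim_e7 (hF : Fintype.card F = q) (hq : (q = 3 ∧ 9 ≤ N) ∨ (q = 5 ∧ 11 ≤ N))
    (H : Hyp S (Matrix.ProjectiveSpecialLinearGroup (Fin N) F)) {u : ℕ} (hg : IsNamed (.e7 u) S) :
    ∃ f : ℕ, f ≠ 0 ∧ u = q ^ f := by
  obtain ⟨E, _, _, hE, ⟨e⟩⟩ := hg.real
  have hu : IsPrimePow u := hg.cond
  have hcov : Cover S u 8 := hE ▸ Cover.congr e H168.ExcCover.e7_cover
  have heq : Nat.gcd 2 (u - 1) * Nat.card S = u ^ 63 * ((u ^ 2 - 1) * (u ^ 6 - 1) * (u ^ 8 - 1) * (u ^ 10 - 1) *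
    (u ^ 12 - 1) * (u ^ 14 - 1) * (u ^ 18 - 1)) := hg.eq
  refine step hF hq H hu ((Nat.gcd_dvd_left _ _).trans (by norm_num))
    (fun p hp h => not_dvd_gcd_sub (le_of_lt hu.one_lt) hp h) heq rfl (by norm_num)
    (degs := d7) (fun j hj => ?_) fun p hp hpu hpq => ?_
  · simp only [d7, List.mem_cons, List.not_mem_nil, or_false] at hj
    rcases hj with rfl | rfl | rfl | rfl | rfl | rfl | rfl
    · exact ((((((dvd_mul_right _ _).mul_right _).mul_right _).mul_right _).mul_right _).mul_right _).mul_left _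
    · exact ((((((dvd_mul_left _ _).mul_right _).mul_right _).mul_right _).mul_right _).mul_right _).mul_left _
    · exact (((((dvd_mul_left _ _).mul_right _).mul_right _).mul_right _).mul_right _).mul_left _
    · exact ((((dvd_mul_left _ _).mul_right _).mul_right _).mul_right _).mul_left _
    · exact (((dvd_mul_left _ _).mul_right _).mul_right _).mul_left _
    · exact ((dvd_mul_left _ _).mul_right _).mul_left _
    · exact (dvd_mul_left _ _).mul_left _
  · obtain ⟨p', f, hp', hf, rfl⟩ := hu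
    obtain rfl : p = p' := (Nat.prime_dvd_prime_iff_eq hp hp'.nat_prime).1 (hp.dvd_of_dvd_pow hpu)
    have hN := (le_of_cover hF hq H hp hcov).1
    rcases hq with ⟨h, h9⟩ | ⟨h, h9⟩ <;> subst h
    · exact ⟨20, ch3, fs3, w3e7, [], by omega, c3e7, List.not_mem_nil⟩
    · exact ⟨20, ch5, fs5.take 20, w5e7, [], by omega, c5e7, List.not_mem_nil⟩

/-- **`E₈(u)`** -/
theorem elim_e8 (hF : Fintype.card F = q) (hq : (q = 3 ∧ 9 ≤ N) ∨ (q = 5 ∧ 11 ≤ N))
    (H : Hyp S (Matrix.ProjectiveSpecialLinearGroup (Fin N) F)) {u : ℕ} (hg : IsNamed (.e8 u) S) :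
    ∃ f : ℕ, f ≠ 0 ∧ u = q ^ f := by
  obtain ⟨E, _, _, hE, ⟨e⟩⟩ := hg.real
  have hu : IsPrimePow u := hg.cond
  have hcov : Cover S u 12 := hE ▸ Cover.congr e H168.ExcCover.e8_cover
  have heq : 1 * Nat.card S = u ^ 120 * ((u ^ 2 - 1) * (u ^ 8 - 1) * (u ^ 12 - 1) * (u ^ 14 - 1) * (u ^ 18 - 1) *
    (u ^ 20 - 1) * (u ^ 24 - 1) * (u ^ 30 - 1)) := hg.eq
  refine step hF hq H hu (by norm_num) (fun p hp _ h => hp.one_lt.ne' (Nat.dvd_one.1 h)) heq rfl (by norm_num)
    (degs := d8) (fun j hj => ?_) fun p hp hpu hpq => ?_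
  · simp only [d8, List.mem_cons, List.not_mem_nil, or_false] at hj
    rcases hj with rfl | rfl | rfl | rfl | rfl | rfl | rfl | rfl
    · exact (((((((dvd_mul_right _ _).mul_right _).mul_right _).mul_right _).mul_right _).mul_right
        _).mul_right _).mul_left _
    · exact (((((((dvd_mul_left _ _).mul_right _).mul_right _).mul_right _).mul_right _).mul_right
        _).mul_right _).mul_left _
    · exact ((((((dvd_mul_left _ _).mul_right _).mul_right _).mul_right _).mul_right _).mul_right _).mul_left _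
    · exact (((((dvd_mul_left _ _).mul_right _).mul_right _).mul_right _).mul_right _).mul_left _
    · exact ((((dvd_mul_left _ _).mul_right _).mul_right _).mul_right _).mul_left _
    · exact (((dvd_mul_left _ _).mul_right _).mul_right _).mul_left _
    · exact ((dvd_mul_left _ _).mul_right _).mul_left _
    · exact (dvd_mul_left _ _).mul_left _
  · obtain ⟨p', f, hp', hf, rfl⟩ := hu
    obtain rfl : p = p' := (Nat.prime_dvd_prime_iff_eq hp hp'.nat_prime).1 (hp.dvd_of_dvd_pow hpu)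
    have hN := (le_of_cover hF hq H hp hcov).1
    rcases id hq with ⟨h, h9⟩ | ⟨h, h9⟩
    · -- `31` divides `|S|`
      exfalso
      have h31 : 31 ∣ Nat.card S := by
        rw [← one_mul (Nat.card S), heq]
        by_cases hp31 : p = 31
        · rw [hp31] at hpu ⊢
          exact (dvd_pow hpu (by norm_num)).mul_right _
        · have hcop : ¬ 31 ∣ p ^ f := fun h' =>
            hp31 ((Nat.prime_dvd_prime_iff_eq (by norm_num) hp).1
              (Nat.Prime.dvd_of_dvd_pow (by norm_num) h')).symm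
          have := Fact.mk (show Nat.Prime 31 by norm_num)
          have h0 : ((p ^ f : ℕ) : ZMod 31) ≠ 0 := by
            rw [Ne, ZMod.natCast_eq_zero_iff]
            exact hcop
          have h1 := ZMod.pow_card_sub_one_eq_one h0
          have h2 : 31 ∣ (p ^ f) ^ 30 - 1 := by
            rw [← ZMod.natCast_eq_zero_iff, Nat.cast_sub (Nat.one_le_pow _ _ (Nat.pos_of_ne_zero
              (pow_ne_zero _ hp.ne_zero))), Nat.cast_pow]
            rw [show (30 : ℕ) = 31 - 1 from rfl, h1, Nat.cast_one, sub_self]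
          exact h2.trans ((dvd_mul_left _ _).mul_left _)
      obtain ⟨k, hk1, hkN, hk⟩ := exists_pow_of_dvd hF hq H (by norm_num) h31 (by omega)
      subst h
      have hk28 : k ≤ 28 := by (clear * - hN hkN; omega)
      revert hk
      clear hkN
      interval_cases k <;> decide +kernel
    · subst h
      exact ⟨28, ch5, fs5, w5e8, [], by omega, c5e8, List.not_mem_nil⟩

/-- **`Sz(u)`** -/
theorem elim_sz (hF : Fintype.card F = q) (hq : (q = 3 ∧ 9 ≤ N) ∨ (q = 5 ∧ 11 ≤ N))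
    (H : Hyp S (Matrix.ProjectiveSpecialLinearGroup (Fin N) F)) {u : ℕ} (hg : IsNamed (.sz u) S) : False := by
  obtain ⟨E, i1, i2, m, hm, hE, hu, ⟨e⟩⟩ := hg.real
  have hcov : Cover S (2 ^ 1) 3 := H168.TwF4Cover.cover_suzuki ⟨E, i1, i2, m, hm, hE.trans hu, ⟨e⟩⟩
  have h1 := (le_of_cover hF hq H Nat.prime_two hcov).2 (by norm_num)
  omega

/-- **`²G₂(u)`** -/
theorem elim_ree (hF : Fintype.card F = q) (hq : (q = 3 ∧ 9 ≤ N) ∨ (q = 5 ∧ 11 ≤ N))
    (H : Hyp S (Matrix.ProjectiveSpecialLinearGroup (Fin N) F)) {u : ℕ} (hg : IsNamed (.ree u) S) :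
    ∃ f : ℕ, f ≠ 0 ∧ u = q ^ f := by
  obtain ⟨E, i1, i2, m, hm, hE, hu, ⟨e⟩⟩ := hg.real
  rcases id hq with ⟨h, -⟩ | ⟨h, h11⟩
  · exact ⟨2 * m + 1, by omega, by rw [hu, h]⟩
  · exfalso
    have hcov : Cover S (3 ^ 1) 4 := Cover.congr e (H168.TwF4Cover.ree_cover hm (hE.trans hu))
    have h1 := (le_of_cover hF hq H Nat.prime_three hcov).2 (by norm_num)
    omega

end Cfsg.Agent.H376.LPsl
end

-- part: H376/ElimTF4
section
/-!
# `L = PSL_N(3)`, `N ≥ 9`, or `PSL_N(5)`, `N ≥ 11`: `S ≠ ²F₄(u)`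
-/

set_option autoImplicit false

namespace Cfsg.Agent.H376.LPsl

open Finset Cfsg.Agent.H376.Coc Cfsg.Agent.H420.QR Cfsg.Agent.H376.ExcTab Cfsg.Agent.OrdDiv Cfsg.Agent.H436
  Cfsg.Agent.H414.Arith

namespace TF4

def t3 : List (ℕ × List (ℕ × ℕ)) :=
  [(5, [(2, 2)]), (7, [(2, 1), (3, 1)]), (11, [(2, 1), (5, 1)]), (13, [(2, 2), (3, 1)]), (23, [(2, 1), (11,
    1)]), (41, [(2, 3), (5, 1)]), (61, [(2, 2), (3, 1), (5, 1)]), (73, [(2, 3), (3, 2)]), (757, [(2, 2), (3, 3),
    (7, 1)]), (1093, [(2, 2), (3, 1), (7, 1), (13, 1)]), (3851, [(2, 1), (5, 2), (7, 1), (11, 1)])]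

def t5 : List (ℕ × List (ℕ × ℕ)) :=
  [(3, [(2, 1)]), (7, [(2, 1), (3, 1)]), (11, [(2, 1), (5, 1)]), (13, [(2, 2), (3, 1)]), (19, [(2, 1), (3, 2)]),
    (31, [(2, 1), (3, 1), (5, 1)]), (71, [(2, 1), (5, 1), (7, 1)]), (313, [(2, 3), (3, 1), (13, 1)]), (521, [(2,
    3), (5, 1), (13, 1)]), (601, [(2, 3), (3, 1), (5, 2)]), (829, [(2, 2), (3, 2), (23, 1)]), (19531, [(2, 1),
    (3, 2), (5, 1), (7, 1), (31, 1)]), (12207031, [(2, 1), (3, 1), (5, 1), (11, 1), (71, 1), (521, 1)])]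

def lOk (x : ℕ × List (ℕ × ℕ)) : Bool :=
  Nat.beq (H414.Arith.prodl x.2 + 1) x.1 && x.2.all fun y => trialPr y.1 && (Nat.beq y.1 2 || (!(Nat.beq (pe x.1 2 y.1) 1)) ||
    ((Nat.beq x.1 7 && Nat.beq y.1 3) || (Nat.beq x.1 31 && Nat.beq y.1 5) || (Nat.beq x.1 23 && Nat.beq y.1 11)))

theorem c3 : t3.all lOk = true := by decide +kernel
theorem c5 : t5.all lOk = true := by decide +kernel
theorem f3 : fOk 3 ch3 (2 :: t3.map fun x => x.1) 0 (fs3.take 12) = true := by decide +kernel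
theorem f5 : fOk 5 ch5 (2 :: t5.map fun x => x.1) 0 (fs5.take 12) = true := by decide +kernel
theorem ch3_ok : chainB [] ch3 = true := by decide +kernel
theorem ch5_ok : chainB [] ch5 = true := by decide +kernel

/-- primes dividing `2 ^ l - 1` -/
theorem dvd_pred {x l : ℕ} (hx : x.Prime) (hl : l.Prime) (h : x ∣ 2 ^ l - 1) : l ∣ x - 1 := by
  have := Fact.mk hx
  have h1 : ((2 : ℕ) : ZMod x) ^ l = 1 := by
    have h2 : ((2 ^ l - 1 : ℕ) : ZMod x) = 0 := (ZMod.natCast_eq_zero_iff _ _).2 h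
    rw [Nat.cast_sub (Nat.one_le_pow _ _ (by norm_num)), Nat.cast_one, sub_eq_zero, Nat.cast_pow] at h2
    exact h2
  have h3 : orderOf ((2 : ℕ) : ZMod x) ∣ l := orderOf_dvd_of_pow_eq_one h1
  have h4 : orderOf ((2 : ℕ) : ZMod x) ≠ 1 := by
    intro h5
    rw [orderOf_eq_one_iff] at h5
    have h6 : x ∣ 1 := by
      have h7 : ((1 : ℕ) : ZMod x) = 0 := by
        have h8 : ((2 : ℕ) : ZMod x) = 1 + 1 := by push_cast; norm_num
        rw [Nat.cast_one]
        exact add_left_cancel (h8.symm.trans (h5.trans (add_zero 1).symm))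
      exact (ZMod.natCast_eq_zero_iff _ _).1 h7
    exact hx.one_lt.ne' (Nat.dvd_one.1 h6)
  have h5 : orderOf ((2 : ℕ) : ZMod x) = l := ((Nat.dvd_prime hl).1 h3).resolve_left h4
  rw [← h5]
  have hne : ((2 : ℕ) : ZMod x) ≠ 0 := by
    intro h6
    rw [h6, zero_pow hl.ne_zero] at h1
    exact zero_ne_one h1
  exact orderOf_dvd_of_pow_eq_one (ZMod.pow_card_sub_one_eq_one hne)

theorem of_lOk {x : ℕ × List (ℕ × ℕ)} (h : lOk x = true) {l : ℕ} (hx : x.1.Prime) (hl : l.Prime) (hl2 : l ≠ 2)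
    (hd : x.1 ∣ 2 ^ l - 1) : (x.1 = 7 ∧ l = 3) ∨ (x.1 = 31 ∧ l = 5) ∨ (x.1 = 23 ∧ l = 11) := by
  have h0 := dvd_pred hx hl hd
  unfold lOk at h
  rw [Bool.and_eq_true, Nat.beq_eq, List.all_eq_true] at h
  obtain ⟨h1, h2⟩ := h
  have h3 : l ∣ H414.Arith.prodl x.2 := by
    have h4 : H414.Arith.prodl x.2 = x.1 - 1 := by omega
    rwa [h4]
  obtain ⟨y, hy, hyl⟩ := mem_of_dvd_prodl hl (fun y hy => by
    have h5 := h2 y hy
    rw [Bool.and_eq_true] at h5
    exact prime_of_trialPr h5.1) h3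
  have h5 := h2 y hy
  rw [Bool.and_eq_true, hyl, Bool.or_eq_true, Bool.or_eq_true, Bool.or_eq_true, Bool.or_eq_true, Bool.and_eq_true,
    Bool.and_eq_true, Bool.and_eq_true] at h5
  simp only [Nat.beq_eq] at h5
  rcases h5.2 with (h6 | h6) | (h6 | h6) | h6
  · exact absurd h6 hl2
  · exact absurd hd (not_dvd_of_pe (by norm_num) hx.one_lt h6)
  · exact Or.inl h6
  · exact Or.inr (Or.inl h6)
  · exact Or.inr (Or.inr h6)

theorem dvd_add_one_of_odd {a m g n : ℕ} (h : m ∣ a ^ n + 1) (hg : Odd g) : m ∣ a ^ (n * g) + 1 := by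
  rw [pow_mul]
  have h1 : a ^ n + 1 ∣ (a ^ n) ^ g + 1 ^ g := hg.nat_add_dvd_pow_add_pow _ _
  rw [one_pow] at h1
  exact h.trans h1

end TF4

open TF4

variable {F : Type*} [Field F] [Fintype F] {q N : ℕ} {S : Type*} [Group S]

/-- **`²F₄(u)`** -/
theorem elim_tf4 (hF : Fintype.card F = q) (hq : (q = 3 ∧ 9 ≤ N) ∨ (q = 5 ∧ 11 ≤ N))
    (H : Hyp S (Matrix.ProjectiveSpecialLinearGroup (Fin N) F)) {u : ℕ} (hg : IsNamed (.tf4 u) S) : False := by
  obtain ⟨E, i1, i2, m, hm, hE, hu, ⟨e⟩⟩ := hg.real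
  have hcov : Cover S (2 ^ 1) 5 := Cover.congr e (H168.TwF4Cover.tf4_cover (hE.trans hu))
  have hN : N ≤ 12 := by
    have := (le_of_cover hF hq H Nat.prime_two hcov).2 (by norm_num)
    omega
  have heq : 1 * Nat.card S = u ^ 12 * ((u - 1) * (u ^ 3 + 1) * (u ^ 4 - 1) * (u ^ 6 + 1)) := hg.eq
  rw [one_mul] at heq
  have key : ∀ x : ℕ, x.Prime → x ≠ q → x ∣ u - 1 ∨ x ∣ u ^ 3 + 1 ∨ x ∣ u ^ 6 + 1 →
      ∃ k, 1 ≤ k ∧ k ≤ 12 ∧ x ∣ q ^ k - 1 := by
    intro x hx hxq h
    have h1 : x ∣ Nat.card S := by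
      rw [heq]
      apply dvd_mul_of_dvd_right
      rcases h with h | h | h
      · exact ((h.mul_right _).mul_right _).mul_right _
      · exact ((h.mul_left _).mul_right _).mul_right _
      · exact h.mul_left _
    obtain ⟨k, a, b, c⟩ := exists_pow_of_dvd hF hq H hx h1 hxq
    exact ⟨k, a, b.trans hN, c⟩
  -- a prime divisor `l` of `2 m + 1` and a prime divisor `x` of `2 ^ l - 1`
  have hf1 : 2 * m + 1 ≠ 1 := by omega
  obtain ⟨l, hl, hlf⟩ := Nat.exists_prime_and_dvd hf1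
  obtain ⟨g, hg'⟩ := hlf
  have hodd : Odd (l * g) := by rw [← hg']; exact ⟨m, rfl⟩
  have hlo : Odd l := (Nat.odd_mul.1 hodd).1
  have hgo : Odd g := (Nat.odd_mul.1 hodd).2
  have hl2 : l ≠ 2 := by
    rintro rfl
    exact absurd hlo (by decide)
  have hdl : 2 ^ l - 1 ∣ u - 1 := by
    rw [hu, hg', pow_mul]
    have h3 := Nat.sub_dvd_pow_sub_pow (2 ^ l) 1 g
    rwa [one_pow] at h3
  have h2l : 2 ^ l - 1 ≠ 1 := by
    have h4 : 2 ^ 2 ≤ 2 ^ l := Nat.pow_le_pow_right (by norm_num) hl.two_le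
    omega
  obtain ⟨x, hx, hxl⟩ := Nat.exists_prime_and_dvd h2l
  have hxq : x ≠ q := by
    rintro rfl
    have h3 := dvd_pred hx hl hxl
    rcases id hq with ⟨h, -⟩ | ⟨h, -⟩
    · subst h
      exact hl2 ((Nat.prime_dvd_prime_iff_eq hl Nat.prime_two).1 h3)
    · subst h
      exact hl2 ((Nat.prime_dvd_prime_iff_eq hl Nat.prime_two).1 (hl.dvd_of_dvd_pow (show l ∣ 2 ^ 2 from h3)))
  obtain ⟨k, hk1, hk2, hk⟩ := key x hx hxq (Or.inl (hxl.trans hdl))
  have hx2 : x ≠ 2 := by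
    rintro rfl
    have h3 : 1 ≤ 2 ^ l := Nat.one_le_pow _ _ (by norm_num)
    have h4 : 2 ∣ 2 ^ l := dvd_pow_self 2 hl.ne_zero
    (clear * - hxl h3 h4; omega)
  -- the list of the possible `x`
  have hx3 : (x = 7 ∧ l = 3) ∨ (x = 31 ∧ l = 5) ∨ (x = 23 ∧ l = 11) := by
    rcases id hq with ⟨h, -⟩ | ⟨h, -⟩
    · subst h
      have h3 := fOk_spec ch3_ok _ 0 f3 x k hx (by omega) (by simpa [fs3] using hk2) hk
      rcases List.mem_cons.1 h3 with h3 | h3
      · exact absurd h3 hx2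
      · obtain ⟨y, hy, rfl⟩ := List.mem_map.1 h3
        exact of_lOk (List.all_eq_true.1 c3 y hy) hx hl hl2 hxl
    · subst h
      have h3 := fOk_spec ch5_ok _ 0 f5 x k hx (by omega) (by simpa [fs5] using hk2) hk
      rcases List.mem_cons.1 h3 with h3 | h3
      · exact absurd h3 hx2
      · obtain ⟨y, hy, rfl⟩ := List.mem_map.1 h3
        exact of_lOk (List.all_eq_true.1 c5 y hy) hx hl hl2 hxl
  clear hk hk1 hk2 k
  have hu3 : u ^ 3 = 2 ^ (3 * l * g) := by rw [hu, hg', ← pow_mul]; congr 1; ring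
  have hu6 : u ^ 6 = 2 ^ (6 * l * g) := by rw [hu, hg', ← pow_mul]; congr 1; ring
  rcases hx3 with ⟨-, rfl⟩ | ⟨-, rfl⟩ | ⟨-, rfl⟩
  · -- `3 ∣ f`: 19 and 37
    rcases id hq with ⟨h, -⟩ | ⟨h, -⟩
    · subst h
      obtain ⟨k, hk1, hk2, hk⟩ := key 19 (by norm_num) (by norm_num) (Or.inr (Or.inl (by
        rw [hu3]; exact dvd_add_one_of_odd (by decide +kernel) hgo)))
      revert hk
      interval_cases k <;> decide +kernel
    · subst h
      obtain ⟨k, hk1, hk2, hk⟩ := key 37 (by norm_num) (by norm_num) (Or.inr (Or.inr (by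
        rw [hu6]; exact dvd_add_one_of_odd (by decide +kernel) hgo)))
      revert hk
      interval_cases k <;> decide +kernel
  · -- `5 ∣ f`: 331
    rcases id hq with ⟨h, -⟩ | ⟨h, -⟩
    · subst h
      obtain ⟨k, hk1, hk2, hk⟩ := key 331 (by norm_num) (by norm_num) (Or.inr (Or.inl (by
        rw [hu3]; exact dvd_add_one_of_odd (by decide +kernel) hgo)))
      revert hk
      interval_cases k <;> decide +kernel
    · subst h
      obtain ⟨k, hk1, hk2, hk⟩ := key 331 (by norm_num) (by norm_num) (Or.inr (Or.inl (by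
        rw [hu3]; exact dvd_add_one_of_odd (by decide +kernel) hgo)))
      revert hk
      interval_cases k <;> decide +kernel
  · -- `11 ∣ f`: 89
    have h89 : 89 ∣ u - 1 := dvd_trans (by decide +kernel) hdl
    rcases id hq with ⟨h, -⟩ | ⟨h, -⟩
    · subst h
      obtain ⟨k, hk1, hk2, hk⟩ := key 89 (by norm_num) (by norm_num) (Or.inl h89)
      revert hk
      interval_cases k <;> decide +kernel
    · subst h
      obtain ⟨k, hk1, hk2, hk⟩ := key 89 (by norm_num) (by norm_num) (Or.inl h89)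
      revert hk
      interval_cases k <;> decide +kernel

end Cfsg.Agent.H376.LPsl
end

-- part: H376/Dispatch
section
/-!
# `L = PSL_N(3)`, `N ≥ 9`, or `PSL_N(5)`, `N ≥ 11`: all simple groups `S` outside of the characteristic of `L`

`same_char` : a named simple group `S` with `Hyp S L` is a group of Lie type over a field with `q ^ f` elements.
-/

set_option autoImplicit false

namespace Cfsg.Agent.H376.LPsl

open Finset Cfsg Cfsg.Agent.H376.Coc Cfsg.Agent.OrdDiv Cfsg.Agent.H436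

variable {F : Type*} [Field F] [Fintype F] {q N : ℕ} {S : Type*} [Group S]

/-- the number of elements of the field, 0 for the groups which are not of Lie type -/
def fieldOf : Grp → ℕ
  | .psl _ q => q
  | .psp _ q => q
  | .psu _ q => q
  | .oodd _ q => q
  | .oplus _ q => q
  | .ominus _ q => q
  | .g2 q => q
  | .f4 q => q
  | .e6 q => q
  | .e7 q => q
  | .e8 q => q
  | .te6 q => q
  | .td4 q => q
  | .sz q => q
  | .ree q => q
  | .tf4 q => q
  | _ => 0

theorem same_char (hF : Fintype.card F = q) (hq : (q = 3 ∧ 9 ≤ N) ∨ (q = 5 ∧ 11 ≤ N))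
    (H : Hyp S (Matrix.ProjectiveSpecialLinearGroup (Fin N) F)) {g : Grp} (hg : IsNamed g S) :
    ∃ f : ℕ, f ≠ 0 ∧ fieldOf g = q ^ f := by
  have spor : Nat.card S ∈ H437.sporList → ∃ f : ℕ, f ≠ 0 ∧ fieldOf g = q ^ f :=
    fun h => (elim_spor hF hq h H).elim
  cases g with
  | alt n =>
    obtain ⟨e⟩ := hg.real
    exact (elim_alt hF hq (H.congr e)).elim
  | psl n u =>
    obtain ⟨E, _, _, hE, ⟨e⟩⟩ := hg.real
    have h := elim_psl hF hq hg.cond.1 (H.congr e)
    rwa [hE] at h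
  | psp n u =>
    obtain ⟨E, _, _, hE, ⟨e⟩⟩ := hg.real
    have h := elim_psp hF hq hg.cond.1 (H.congr e)
    rwa [hE] at h
  | psu n u =>
    obtain ⟨E, _, _, hE, ⟨e⟩⟩ := hg.real
    exact elim_psu hF hq hE hg.cond.1 (H.congr e)
  | oodd n u =>
    obtain ⟨E, _, _, hE, ⟨e⟩⟩ := hg.real
    have h := elim_oodd hF hq (by rw [hE]; exact hg.cond.2.1) hg.cond.1 (H.congr e)
    rwa [hE] at h
  | oplus n u =>
    obtain ⟨E, _, _, hE, ⟨e⟩⟩ := hg.real
    have h := elim_oplus hF hq hg.cond.1 (H.congr e)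
    rwa [hE] at h
  | ominus n u =>
    obtain ⟨E, _, _, a, b, hE, hab, ⟨e⟩⟩ := hg.real
    have h := elim_ominus hF hq hg.cond.1 hab (H.congr e)
    rwa [hE] at h
  | g2 u => exact elim_g2 hF hq H hg
  | f4 u => exact elim_f4 hF hq H hg
  | e6 u => exact elim_e6 hF hq H hg
  | e7 u => exact elim_e7 hF hq H hg
  | e8 u => exact elim_e8 hF hq H hg
  | te6 u => exact elim_te6 hF hq H hg
  | td4 u => exact elim_td4 hF hq H hg
  | sz u => exact (elim_sz hF hq H hg).elim
  | ree u => exact elim_ree hF hq H hg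
  | tf4 u => exact (elim_tf4 hF hq H hg).elim
  | _ => exact spor (by rw [hg.ord]; decide +kernel)

end Cfsg.Agent.H376.LPsl
end

-- part: H376/LPslTwo
section
/-!
# The prime 2 in the prime graph of `PSL_N(q)`

`not_two_top` : `ord_r(q) = N`, `z ^ N ≠ 1` for non-squares `z` : no element of order `2 r`;
`not_two_sub` : `ord_r(q) = N - 1`, `N` even, `a ^ N ≠ -1` for all `a` : no element of order `2 r`.
-/

set_option autoImplicit false

namespace Cfsg.Agent.H376.LPsl

open Module Cfsg.Agent.H376.PrimeOrd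

section Lin

variable {F V : Type*} [Field F] [Finite F] [AddCommGroup V] [Module F V] [FiniteDimensional F V]

/-- invariant subspaces are fixed pointwise or large -/
theorem inv_subspace {B : Module.End F V} {r : ℕ} (hr : r.Prime) (hrF : (r : F) ≠ 0) (hB : B ^ r = 1)
    (U : Submodule F V) (hU : ∀ u ∈ U, B u ∈ U) (h0 : U ⊓ LinearMap.range (B - 1) ≠ ⊥) :
    orderOf ((Nat.card F : ℕ) : ZMod r) ≤ finrank F (U ⊓ LinearMap.range (B - 1) : Submodule F V) := by
  have h1 := ord_dvd hr hB hrF (U ⊓ LinearMap.range (B - 1)) (fun u hu =>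
    ⟨hU u hu.1, range_mem (A := B) (B := B) rfl u hu.2⟩) inf_le_right
  have h2 : 0 < finrank F (U ⊓ LinearMap.range (B - 1) : Submodule F V) :=
    Module.finrank_pos_iff.2 (Submodule.nontrivial_iff_ne_bot.2 h0)
  exact Nat.le_of_dvd h2 h1

theorem scalar_of_top {A B : Module.End F V} {r : ℕ} (hr : r.Prime) (hrF : (r : F) ≠ 0)
    (hB : B ^ r = 1) (hB1 : B ≠ 1) (hAB : A * B = B * A) {c : F} (hA : A * A = (c * c) • 1)
    (hK : orderOf ((Nat.card F : ℕ) : ZMod r) = finrank F V) : ∃ a : F, A = a • 1 := by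
  have hrange : LinearMap.range (B - 1) = ⊤ := by
    have h1 := inv_subspace hr hrF hB ⊤ (fun _ _ => Submodule.mem_top)
      (by rw [top_inf_eq]; exact range_ne_bot hB1)
    rw [top_inf_eq, hK] at h1
    exact Submodule.eq_top_of_finrank_eq (le_antisymm (Submodule.finrank_le _) h1)
  have hcomm : ∀ v, A (B v) = B (A v) := fun v => congrArg (fun f : Module.End F V => f v) hAB
  have hAA : ∀ v, A (A v) = (c * c) • v := fun v => congrArg (fun f : Module.End F V => f v) hA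
  by_cases h0 : LinearMap.ker (A - c • 1) = ⊥
  · refine ⟨-c, LinearMap.ext fun v => ?_⟩
    have h1 : A v + c • v ∈ LinearMap.ker (A - c • 1) := by
      rw [LinearMap.mem_ker, LinearMap.sub_apply, map_add, map_smul, hAA, LinearMap.smul_apply,
        Module.End.one_apply, smul_add, smul_smul]
      abel
    rw [h0, Submodule.mem_bot] at h1
    rw [LinearMap.smul_apply, Module.End.one_apply, neg_smul]
    exact eq_neg_of_add_eq_zero_left h1
  · have h1 := inv_subspace hr hrF hB (LinearMap.ker (A - c • 1)) (fun u hu => by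
      rw [LinearMap.mem_ker, LinearMap.sub_apply, LinearMap.smul_apply, Module.End.one_apply,
        sub_eq_zero] at hu ⊢
      rw [hcomm, hu, map_smul]) (by rw [hrange, inf_top_eq]; exact h0)
    rw [hrange, inf_top_eq, hK] at h1
    have h2 : LinearMap.ker (A - c • 1) = ⊤ :=
      Submodule.eq_top_of_finrank_eq (le_antisymm (Submodule.finrank_le _) h1)
    exact ⟨c, sub_eq_zero.1 (LinearMap.ker_eq_top.1 h2)⟩

/-- one fixed dimension -/
theorem det_of_sub {A B : Module.End F V} {r : ℕ} (hr : r.Prime) (hrF : (r : F) ≠ 0)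
    (hB : B ^ r = 1) (hB1 : B ≠ 1) (hAB : A * B = B * A) {z : F} (hA : A * A = z • 1)
    (hn : 3 ≤ finrank F V)
    (hK : orderOf ((Nat.card F : ℕ) : ZMod r) + 1 = finrank F V) :
    (∃ a : F, A = a • 1) ∨ ∃ a : F, LinearMap.det A = a * (-a) ^ (finrank F V - 1) := by
  have hcomm : ∀ v, A (B v) = B (A v) := fun v => congrArg (fun f : Module.End F V => f v) hAB
  have hAA : ∀ v, A (A v) = z • v := fun v => congrArg (fun f : Module.End F V => f v) hA
  set W := LinearMap.range (B - 1) with hW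
  set U := LinearMap.ker (B - 1) with hU
  have hsum := LinearMap.finrank_range_add_finrank_ker (B - 1)
  rw [← hW, ← hU] at hsum
  have hdis : U ⊓ W = ⊥ := ker_inf_range hB hrF
  have hWd : orderOf ((Nat.card F : ℕ) : ZMod r) ∣ finrank F W :=
    ord_dvd hr hB hrF W (range_mem (A := B) (B := B) rfl) le_rfl
  have hWpos : 0 < finrank F W :=
    Module.finrank_pos_iff.2 (Submodule.nontrivial_iff_ne_bot.2 (range_ne_bot hB1))
  have hWn : finrank F W + 1 = finrank F V := by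
    obtain ⟨c, hc⟩ := hWd
    rcases c with _ | _ | c
    · omega
    · omega
    · have : orderOf ((Nat.card F : ℕ) : ZMod r) * 2 ≤
        orderOf ((Nat.card F : ℕ) : ZMod r) * (c + 1 + 1) := Nat.mul_le_mul_left _ (by omega)
      omega
  have hU1 : finrank F U = 1 := by omega
  obtain ⟨u, hu0, hu⟩ := finrank_eq_one_iff'.1 hU1
  have hcompl : IsCompl U W := by
    refine ⟨disjoint_iff.2 hdis, ?_⟩
    rw [codisjoint_iff]
    apply Submodule.eq_top_of_finrank_eq
    have h1 := Submodule.finrank_sup_add_finrank_inf_eq U W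
    rw [hdis, finrank_bot] at h1
    omega
  -- `A` preserves both
  have hAU : ∀ v ∈ U, A v ∈ U := by
    intro v hv
    rw [hU, LinearMap.mem_ker, LinearMap.sub_apply, Module.End.one_apply, sub_eq_zero] at hv ⊢
    rw [← hcomm, hv]
  have hAW : ∀ v ∈ W, A v ∈ W := range_mem (A := B) (B := A) hAB.symm
  obtain ⟨a, ha⟩ := hu ⟨A u, hAU u u.2⟩
  have ha' : A (u : V) = a • (u : V) := (congrArg Subtype.val ha).symm
  have hU' : ∀ v ∈ U, A v = a • v := by
    intro v hv
    obtain ⟨c, hc⟩ := hu ⟨v, hv⟩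
    have hc' : v = c • (u : V) := (congrArg Subtype.val hc).symm
    rw [hc', map_smul, ha', smul_comm]
  have hza : z = a * a := by
    have h1 := hAA (u : V)
    rw [ha', map_smul, ha', smul_smul] at h1
    have h2 : (u : V) ≠ 0 := fun h => hu0 (Subtype.ext h)
    exact (smul_left_injective F h2 h1).symm
  by_cases h0 : LinearMap.ker (A - a • 1) ⊓ W = ⊥
  · right
    refine ⟨a, ?_⟩
    have hW' : ∀ v ∈ W, A v = (-a) • v := by
      intro v hv
      have h1 : A v + a • v ∈ LinearMap.ker (A - a • 1) ⊓ W := by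
        refine Submodule.mem_inf.2 ⟨?_, W.add_mem (hAW v hv) (W.smul_mem a hv)⟩
        rw [LinearMap.mem_ker, LinearMap.sub_apply, map_add, map_smul, hAA, LinearMap.smul_apply,
          Module.End.one_apply, smul_add, smul_smul, hza]
        abel
      rw [h0, Submodule.mem_bot] at h1
      rw [neg_smul]
      exact eq_neg_of_add_eq_zero_left h1
    set e := Submodule.prodEquivOfIsCompl U W hcompl with he
    have hAe : A = (e : (U × W) →ₗ[F] V) ∘ₗ (LinearMap.prodMap (a • (1 : Module.End F U))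
        ((-a) • (1 : Module.End F W))) ∘ₗ (e.symm : V →ₗ[F] (U × W)) := by
      apply LinearMap.ext
      intro v
      obtain ⟨x, rfl⟩ := e.surjective v
      rw [LinearMap.comp_apply, LinearMap.comp_apply, LinearEquiv.coe_coe, LinearEquiv.coe_coe,
        LinearEquiv.symm_apply_apply, he, Submodule.coe_prodEquivOfIsCompl',
        Submodule.coe_prodEquivOfIsCompl', map_add, hU' _ x.1.2, hW' _ x.2.2]
      rfl
    rw [hAe, LinearMap.det_conj, LinearMap.det_prodMap, LinearMap.det_smul, LinearMap.det_smul,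
      hU1, pow_one]
    have h1 : LinearMap.det (1 : Module.End F U) = 1 := LinearMap.det_id
    have h2 : LinearMap.det (1 : Module.End F W) = 1 := LinearMap.det_id
    rw [h1, h2, mul_one, mul_one]
    congr 2
    omega
  · left
    have h1 := inv_subspace hr hrF hB (LinearMap.ker (A - a • 1)) (fun u hu => by
      rw [LinearMap.mem_ker, LinearMap.sub_apply, LinearMap.smul_apply, Module.End.one_apply,
        sub_eq_zero] at hu ⊢
      rw [hcomm, hu, map_smul]) h0
    have h2 : LinearMap.ker (A - a • 1) ⊓ W = W := by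
      apply Submodule.eq_of_le_of_finrank_le inf_le_right
      rw [← hW] at h1
      omega
    refine ⟨a, LinearMap.ext fun v => ?_⟩
    obtain ⟨x, rfl⟩ := (Submodule.prodEquivOfIsCompl U W hcompl).surjective v
    rw [Submodule.coe_prodEquivOfIsCompl', map_add, hU' _ x.1.2, LinearMap.smul_apply,
      Module.End.one_apply, smul_add]
    congr 1
    have h3 : (x.2 : V) ∈ LinearMap.ker (A - a • 1) := by
      have h4 : (x.2 : V) ∈ LinearMap.ker (A - a • 1) ⊓ W := by rw [h2]; exact x.2.2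
      exact h4.1
    rw [LinearMap.mem_ker, LinearMap.sub_apply, LinearMap.smul_apply, Module.End.one_apply,
      sub_eq_zero] at h3
    exact h3

end Lin

section Grp

variable {F : Type*} [Field F] [Fintype F]

/-- lifting an element of order `2 r` -/
theorem exists_pair {N r : ℕ} (hr : r.Prime) (_ : r ≠ 2)
    (h2k : 2 ≤ orderOf ((Fintype.card F : ℕ) : ZMod r))
    (h : ∃ g : Matrix.ProjectiveSpecialLinearGroup (Fin N) F, orderOf g = 2 * r) :
    ∃ (A B : Module.End F (Fin N → F)) (z : F), B ^ r = 1 ∧ B ≠ 1 ∧ A * B = B * A ∧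
      A * A = z • 1 ∧ (¬ ∃ a : F, A = a • 1) ∧ LinearMap.det A = 1 := by
  obtain ⟨g, hg⟩ := h
  set Z := Subgroup.center (Matrix.SpecialLinearGroup (Fin N) F) with hZ
  have hcop := S2468.cop (F := F) hr h2k
  have ha : orderOf (g ^ r) = 2 := by
    rw [orderOf_pow' g hr.ne_zero, hg, Nat.gcd_mul_left_left]
    exact Nat.mul_div_cancel _ hr.pos
  have hb : orderOf (g ^ 2) = r := by
    rw [orderOf_pow' g (by norm_num), hg, Nat.gcd_mul_right_left]
    exact Nat.mul_div_cancel_left _ (by norm_num)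
  -- use a lift of `g` itself to get commuting lifts
  obtain ⟨x, hx⟩ := QuotientGroup.mk_surjective g
  -- `y' = (x ^ 2) ^ (q - 1)`
  set m := Nat.card F - 1 with hm
  set B₀ : Matrix.SpecialLinearGroup (Fin N) F := (x ^ 2) ^ m with hB₀
  set A₀ : Matrix.SpecialLinearGroup (Fin N) F := x ^ r with hA₀
  have hB₀r : B₀ ^ r = 1 := by
    have h1 : (x ^ 2) ^ r ∈ Z := by
      rw [← QuotientGroup.eq_one_iff, QuotientGroup.mk_pow, QuotientGroup.mk_pow, hx, ← hb,
        pow_orderOf_eq_one]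
    rw [hB₀, ← pow_mul, mul_comm, pow_mul]
    exact S2468.center_pow _ h1
  have hB₀1 : B₀ ≠ 1 := by
    intro h
    have h1 : (g ^ 2) ^ m = 1 := by
      rw [← hx, ← QuotientGroup.mk_pow, ← QuotientGroup.mk_pow]
      exact (congrArg QuotientGroup.mk h).trans (QuotientGroup.mk_one _)
    have h2 := orderOf_dvd_of_pow_eq_one h1
    rw [hb] at h2
    have h3 := Nat.Coprime.eq_one_of_dvd hcop.symm h2
    exact hr.one_lt.ne' h3
  have hcomm : A₀ * B₀ = B₀ * A₀ := by
    rw [hA₀, hB₀, ← pow_mul]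
    exact (Commute.refl x).pow_pow _ _
  have hA₀Z : A₀ * A₀ ∈ Z := by
    rw [← pow_two, ← QuotientGroup.eq_one_iff, hA₀, QuotientGroup.mk_pow, QuotientGroup.mk_pow, hx,
      ← ha, pow_orderOf_eq_one]
  have hA₀n : A₀ ∉ Z := by
    rw [← QuotientGroup.eq_one_iff, hA₀, QuotientGroup.mk_pow, hx]
    intro h
    rw [h, orderOf_one] at ha
    omega
  obtain ⟨z, hz⟩ := Coc.center_scalar hA₀Z
  refine ⟨S2468.phi F N A₀, S2468.phi F N B₀, z, ?_, ?_, ?_, ?_, ?_, ?_⟩
  · rw [← map_pow, hB₀r, map_one]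
  · intro h
    exact hB₀1 (S2468.phi_injective F N (h.trans (map_one _).symm))
  · rw [← map_mul, hcomm, map_mul]
  · rw [← map_mul]
    change Matrix.toLinAlgEquiv' (A₀ * A₀).1 = _
    rw [hz, map_smul, map_one]
  · rintro ⟨a, ha⟩
    apply hA₀n
    have h1 : Matrix.toLinAlgEquiv' A₀.1 = a • (1 : Module.End F (Fin N → F)) := ha
    have h2 : A₀.1 = a • 1 := by
      apply (Matrix.toLinAlgEquiv' (R := F) (n := Fin N)).injective
      rw [h1, map_smul, map_one]
    rw [hZ, Subgroup.mem_center_iff]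
    intro C
    apply Subtype.ext
    change C.1 * A₀.1 = A₀.1 * C.1
    rw [h2, Matrix.mul_smul, Matrix.smul_mul, mul_one, one_mul]
  · change LinearMap.det (Matrix.toLin' A₀.1) = 1
    rw [LinearMap.det_toLin']
    exact A₀.2

/-- **2 and the top prime** -/
theorem not_two_top {N r : ℕ} (hr : r.Prime) (hr2 : r ≠ 2) (hrF : (r : F) ≠ 0) (hN : 2 ≤ N)
    (hK : orderOf ((Fintype.card F : ℕ) : ZMod r) = N)
    (hz : ∀ z : F, ¬ IsSquare z → z ^ N ≠ 1) :
    ¬ ∃ g : Matrix.ProjectiveSpecialLinearGroup (Fin N) F, orderOf g = 2 * r := by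
  intro h
  obtain ⟨A, B, z, hB, hB1, hAB, hA, hns, hdet⟩ := exists_pair hr hr2 (by omega) h
  have hfin : finrank F (Fin N → F) = N := by simp only [_root_.Module.finrank_fintype_fun_eq_card, _root_.Fintype.card_fin]
  by_cases hsq : IsSquare z
  · obtain ⟨c, rfl⟩ := hsq
    refine hns (scalar_of_top hr hrF hB hB1 hAB hA ?_)
    rw [hfin, Nat.card_eq_fintype_card, hK]
  · apply hz z hsq
    have h1 : LinearMap.det (A * A) = 1 := by rw [map_mul, hdet, one_mul]
    rw [hA, LinearMap.det_smul, hfin] at h1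
    have h2 : LinearMap.det (1 : Module.End F (Fin N → F)) = 1 := LinearMap.det_id
    rw [h2, mul_one] at h1
    exact h1

/-- **2 and the second prime** -/
theorem not_two_sub {N r : ℕ} (hr : r.Prime) (hr2 : r ≠ 2) (hrF : (r : F) ≠ 0) (hN : 3 ≤ N)
    (hK : orderOf ((Fintype.card F : ℕ) : ZMod r) + 1 = N)
    (hz : ∀ a : F, a * (-a) ^ (N - 1) ≠ 1) :
    ¬ ∃ g : Matrix.ProjectiveSpecialLinearGroup (Fin N) F, orderOf g = 2 * r := by
  intro h
  obtain ⟨A, B, z, hB, hB1, hAB, hA, hns, hdet⟩ := exists_pair hr hr2 (by omega) h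
  have hfin : finrank F (Fin N → F) = N := by simp only [_root_.Module.finrank_fintype_fun_eq_card, _root_.Fintype.card_fin]
  rcases det_of_sub hr hrF hB hB1 hAB hA (by rw [hfin]; exact hN)
    (by rw [hfin, Nat.card_eq_fintype_card, hK]) with h1 | ⟨a, ha⟩
  · exact hns h1
  · rw [hdet, hfin] at ha
    exact hz a ha.symm

/-! ### `q = 3` and `q = 5` -/

theorem card_cast_zero : ((Fintype.card F : ℕ) : F) = 0 := by
  simp

theorem cast_ne_zero_of_good {r : ℕ} (hr : Good (Fintype.card F) r) : (r : F) ≠ 0 := by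
  obtain ⟨p, hc⟩ := CharP.exists F
  have hp : Fact p.Prime := ⟨CharP.char_is_prime F p⟩
  have hpF : p ∣ Fintype.card F := by
    obtain ⟨m, _, hm⟩ := FiniteField.card F p
    rw [hm]
    exact dvd_pow_self p m.ne_zero
  exact S2468.char_ne hr.prime (fun h => hr.cop (h ▸ hpF))

theorem two_three (hF : Fintype.card F = 3) {N r : ℕ} (hN : 3 ≤ N) (hr : Good 3 r)
    (h : (Odd N ∧ orderOf ((3 : ℕ) : ZMod r) = N) ∨ (Even N ∧ orderOf ((3 : ℕ) : ZMod r) + 1 = N)) :
    ¬ ∃ g : Matrix.ProjectiveSpecialLinearGroup (Fin N) F, orderOf g = 2 * r := by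
  have hrF : (r : F) ≠ 0 := cast_ne_zero_of_good (by rw [hF]; exact hr)
  have h3 : (3 : F) = 0 := by
    have := card_cast_zero (F := F)
    rw [hF] at this
    exact_mod_cast this
  have hsq : ∀ a : F, a ≠ 0 → a ^ 2 = 1 := by
    intro a ha
    have := FiniteField.pow_card_sub_one_eq_one a ha
    rwa [hF] at this
  rcases h with ⟨hodd, hK⟩ | ⟨hev, hK⟩
  · apply not_two_top hr.prime hr.odd hrF (by omega) (by rw [hF]; exact hK)
    intro z hz h1
    have hz0 : z ≠ 0 := by rintro rfl; exact hz ⟨0, by simp⟩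
    obtain ⟨k, rfl⟩ := hodd
    rw [pow_succ, pow_mul, hsq z hz0, one_pow, one_mul] at h1
    exact hz ⟨1, by rw [h1, mul_one]⟩
  · apply not_two_sub hr.prime hr.odd hrF (by omega) (by rw [hF]; exact hK)
    intro a h1
    have ha0 : a ≠ 0 := by rintro rfl; rw [zero_mul] at h1; exact zero_ne_one h1
    obtain ⟨k, rfl⟩ := hev
    obtain ⟨k, rfl⟩ : ∃ j, k = j + 1 := ⟨k - 1, by omega⟩
    rw [show k + 1 + (k + 1) - 1 = 2 * k + 1 by omega, pow_succ, pow_mul, hsq (-a) (neg_ne_zero.2 ha0),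
      one_pow, one_mul] at h1
    have h2 : a ^ 2 = 1 := hsq a ha0
    have h4 : (1 : F) = 0 := by linear_combination h1 + h2 + h3
    exact one_ne_zero h4

theorem two_five (hF : Fintype.card F = 5) {N r : ℕ} (hN : 3 ≤ N) (hr : Good 5 r)
    (h : (¬ 4 ∣ N ∧ orderOf ((5 : ℕ) : ZMod r) = N) ∨ (4 ∣ N ∧ orderOf ((5 : ℕ) : ZMod r) + 1 = N)) :
    ¬ ∃ g : Matrix.ProjectiveSpecialLinearGroup (Fin N) F, orderOf g = 2 * r := by
  have hrF : (r : F) ≠ 0 := cast_ne_zero_of_good (by rw [hF]; exact hr)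
  have h5 : (5 : F) = 0 := by
    have := card_cast_zero (F := F)
    rw [hF] at this
    exact_mod_cast this
  have hsq : ∀ a : F, a ≠ 0 → a ^ 4 = 1 := by
    intro a ha
    have := FiniteField.pow_card_sub_one_eq_one a ha
    rwa [hF] at this
  have hm1 : (-1 : F) = 2 * 2 := by linear_combination - h5
  rcases h with ⟨hodd, hK⟩ | ⟨hev, hK⟩
  · apply not_two_top hr.prime hr.odd hrF (by omega) (by rw [hF]; exact hK)
    intro z hz h1
    have hz0 : z ≠ 0 := by rintro rfl; exact hz ⟨0, by simp⟩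
    have hz1 : z ≠ 1 := by rintro rfl; exact hz ⟨1, by simp⟩
    have hz2 : z ^ 2 ≠ 1 := by
      intro h2
      have h3 : (z - 1) * (z + 1) = 0 := by linear_combination h2
      rcases mul_eq_zero.1 h3 with h4 | h4
      · exact hz1 (sub_eq_zero.1 h4)
      · exact hz ⟨2, by rw [← hm1]; exact eq_neg_of_add_eq_zero_left h4⟩
    have h4 := hsq z hz0
    have hmod := Nat.div_add_mod N 4
    have hlt := Nat.mod_lt N (show 0 < 4 by norm_num)
    rw [← hmod, pow_add, pow_mul, h4, one_pow, one_mul] at h1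
    have hne : N % 4 ≠ 0 := fun h => hodd (Nat.dvd_of_mod_eq_zero h)
    have hcases : N % 4 = 1 ∨ N % 4 = 2 ∨ N % 4 = 3 := by omega
    rcases hcases with h6 | h6 | h6 <;> rw [h6] at h1
    · exact hz1 (by simpa using h1)
    · exact hz2 h1
    · apply hz1
      have : z ^ 4 = z ^ 3 * z := by ring
      rw [this, h1, one_mul] at h4
      exact h4
  · apply not_two_sub hr.prime hr.odd hrF (by omega) (by rw [hF]; exact hK)
    intro a h1
    have ha0 : a ≠ 0 := by rintro rfl; rw [zero_mul] at h1; exact zero_ne_one h1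
    obtain ⟨k, rfl⟩ := hev
    obtain ⟨k, rfl⟩ : ∃ j, k = j + 1 := ⟨k - 1, by omega⟩
    rw [show 4 * (k + 1) - 1 = 4 * k + 3 by omega, pow_add, pow_mul, hsq (-a) (neg_ne_zero.2 ha0),
      one_pow, one_mul] at h1
    have h2 : a ^ 4 = 1 := hsq a ha0
    have h4 : (2 : F) = 0 := by linear_combination - h1 - h2
    have h6 : (1 : F) = 0 := by linear_combination h5 - 2 * h4
    exact one_ne_zero h6

end Grp

end Cfsg.Agent.H376.LPsl
end

-- part: H376/QRec
section
/-!
# Quasirecognition of `PSL_N(3)`, `N ≥ 9`, and `PSL_N(5)`, `N ≥ 11`: assembly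

`cand` : the simple section `S` is `PSL_N(q)` or `PSL_{N-1}(q)`.
-/

set_option autoImplicit false

namespace Cfsg.Agent.H376.LPsl

open Finset Cfsg Cfsg.Agent.H376.Coc Cfsg.Agent.OrdDiv Cfsg.Agent.H436 Cfsg.Agent.H420.QR

universe u v

variable {F : Type v} [Field F] [Fintype F] {q N : ℕ}

theorem IsCoc.isCoq {G : Type*} [Group G] {C : Finset ℕ} (h : IsCoc G C) : IsCoq G C := ⟨h.prime, h.dvd, h.indep⟩

theorem hyp_of_sHyp {L : Type v} [Group L] {S : Type u} [Group S] (h : SHyp L S) : Hyp S L :=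
  ⟨h.pi, h.adj, fun C hC => h.coc C (IsCoc.isCoq hC)⟩

theorem prime_q (hq : (q = 3 ∧ 9 ≤ N) ∨ (q = 5 ∧ 11 ≤ N)) : q.Prime := by
  rcases hq with ⟨h, -⟩ | ⟨h, -⟩ <;> subst h <;> norm_num

/-- the candidates -/
theorem cand (hF : Fintype.card F = q) (hq : (q = 3 ∧ 9 ≤ N) ∨ (q = 5 ∧ 11 ≤ N)) {S : Type u} [Group S]
    [Finite S] (h : SHyp (Matrix.ProjectiveSpecialLinearGroup (Fin N) F) S) {g : Grp} (hg : IsNamed g S) :
    g = .psl N q ∨ g = .psl (N - 1) q := by
  obtain ⟨f, hf, hgf⟩ := same_char hF hq (hyp_of_sHyp h) hg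
  have h1 : H425.Chr.qOf g = q ^ f := by
    rw [← hgf]
    cases g <;> rfl
  exact H425.Chr.lin_surv (prime_q hq) (by omega) hF (by omega) h hg hf h1

/-- an odd prime not adjacent to 2 -/
theorem exists_two (hF : Fintype.card F = q) (hq : (q = 3 ∧ 9 ≤ N) ∨ (q = 5 ∧ 11 ≤ N)) :
    ∃ r : ℕ, Good q r ∧ orderOf ((q : ℕ) : ZMod r) ≤ N ∧
      (((q = 3 ∧ Odd N) ∨ (q = 5 ∧ ¬ 4 ∣ N)) → orderOf ((q : ℕ) : ZMod r) = N) ∧
      ¬ ∃ g : Matrix.ProjectiveSpecialLinearGroup (Fin N) F, orderOf g = 2 * r := by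
  obtain ⟨z, hz, hzN⟩ := exists_good (q := q) (k := N) (by omega) (by omega)
  obtain ⟨w, hw, hwN⟩ := exists_good (q := q) (k := N - 1) (by omega) (by omega)
  rcases id hq with ⟨h, h9⟩ | ⟨h, h11⟩
  · subst h
    rcases Nat.even_or_odd N with h1 | h1
    · refine ⟨w, hw, by omega, ?_, two_three hF (by omega) hw (Or.inr ⟨h1, by omega⟩)⟩
      rintro (⟨-, h2⟩ | ⟨h2, -⟩)
      · exact absurd h1 (Nat.not_even_iff_odd.2 h2)
      · omega
    · exact ⟨z, hz, by omega, fun _ => hzN, two_three hF (by omega) hz (Or.inl ⟨h1, hzN⟩)⟩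
  · subst h
    by_cases h1 : 4 ∣ N
    · refine ⟨w, hw, by omega, ?_, two_five hF (by omega) hw (Or.inr ⟨h1, by omega⟩)⟩
      rintro (⟨h2, -⟩ | ⟨-, h2⟩)
      · omega
      · exact absurd h1 h2
    · exact ⟨z, hz, by omega, fun _ => hzN, two_five hF (by omega) hz (Or.inl ⟨h1, hzN⟩)⟩

/-- **Assembly**, with the elimination of `PSL_{N-1}(q)` as a hypothesis. -/
theorem quasi_of (hF : Fintype.card F = q) (hq : (q = 3 ∧ 9 ≤ N) ∨ (q = 5 ∧ 11 ≤ N)) {G : Type u} [Group G]
    [Finite G]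
    (hL : (∀ r : ℕ, r.Prime → (r ∣ Nat.card (Matrix.ProjectiveSpecialLinearGroup (Fin N) F) ↔ r ∣ Nat.card G)) ∧
      (∀ r s : ℕ, r.Prime → s.Prime → r ≠ s →
        ((∃ x : Matrix.ProjectiveSpecialLinearGroup (Fin N) F, orderOf x = r * s) ↔
          (∃ y : G, orderOf y = r * s))))
    (hprev : ∀ (K : Subgroup G) (_ : K.Normal) (S : Subgroup (G ⧸ K)) (_ : S.Normal), Red G K S →
      SHyp (Matrix.ProjectiveSpecialLinearGroup (Fin N) F) ↥S → ¬ IsNamed (.psl (N - 1) q) ↥S) :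
    ∃ (K H : Subgroup G) (_ : K.Normal) (_ : H.Normal), K ≤ H ∧ Group.IsSolvable ↥K ∧ Group.IsSolvable (G ⧸ H) ∧
      Nonempty (↥H ⧸ K.subgroupOf H ≃* Matrix.ProjectiveSpecialLinearGroup (Fin N) F) := by
  obtain ⟨z, hz, hzN⟩ := exists_good (q := q) (k := N) (by omega) (by omega)
  obtain ⟨C, hC, -, hcard, -, -⟩ := exists_thr hF (by omega) (by omega) hz hzN.le
  obtain ⟨r, hr, hrN, -, hr2⟩ := exists_two hF hq
  obtain ⟨K, hK, S, hS, R, H⟩ := exists_red_of_same hL (IsCoc.isCoq hC) (by omega)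
    ⟨r, hr.prime, hr.odd, (dvd_iff hF (by (clear * - hq hzN; omega)) hr).2 hrN, hr2⟩
  obtain ⟨g, hg⟩ := R.named
  refine R.quasi ?_
  rcases cand hF hq H hg with h | h
  · subst h
    obtain ⟨E, _, _, hE, ⟨e⟩⟩ := hg.real
    exact ⟨e.trans (LieClassical.FieldTransfer.pslCongr (FiniteField.ringEquivOfCardEq (hE.trans hF.symm)))⟩
  · subst h
    exact (hprev K hK S hS R H hg).elim

end Cfsg.Agent.H376.LPsl
end

-- part: H376/Prev
section
/-!
# `L = PSL_N(3)`, `N ≥ 9`, or `PSL_N(5)`, `N ≥ 11`: `S ≠ PSL_{N-1}(q)`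
-/

set_option autoImplicit false

namespace Cfsg.Agent.H376.LPsl

open Finset Cfsg Cfsg.Agent.H376.Coc Cfsg.Agent.OrdDiv Cfsg.Agent.H436 Cfsg.Agent.H420.QR

universe u v

variable {F : Type v} [Field F] [Fintype F] {q N : ℕ}

/-- the index of `S` divides the order of `Out S` -/
theorem index_dvd {X : Type u} [Group X] [Finite X] (S : Subgroup X) [S.Normal]
    (hS : Subgroup.centralizer (S : Set X) = ⊥) : S.index ∣ Nat.card (Cfsg.Out ↥S) := by
  let f : X →* Cfsg.Out ↥S := (QuotientGroup.mk' (Cfsg.Inn ↥S)).comp (MulAut.conjNormal : X →* MulAut ↥S)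
  have hker : f.ker ≤ S := by
    intro g hg
    rw [MonoidHom.mem_ker] at hg
    have h1 : (QuotientGroup.mk' (Cfsg.Inn ↥S)) ((MulAut.conjNormal : X →* MulAut ↥S) g) = 1 := hg
    rw [QuotientGroup.mk'_apply, QuotientGroup.eq_one_iff] at h1
    obtain ⟨s, hs⟩ := h1
    have h2 : (s : X)⁻¹ * g ∈ Subgroup.centralizer (S : Set X) := by
      rw [Subgroup.mem_centralizer_iff]
      intro y hy
      have h3 := congrArg Subtype.val (DFunLike.congr_fun hs (⟨y, hy⟩ : ↥S))
      have h4 : (s : X) * y * (s : X)⁻¹ = g * y * g⁻¹ := h3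
      calc y * ((s : X)⁻¹ * g) = (s : X)⁻¹ * ((s : X) * y * (s : X)⁻¹) * g := by group
        _ = (s : X)⁻¹ * (g * y * g⁻¹) * g := by rw [h4]
        _ = (s : X)⁻¹ * g * y := by group
    rw [hS, Subgroup.mem_bot, inv_mul_eq_one] at h2
    rw [← h2]
    exact s.2
  have h1 : S.index ∣ f.ker.index := Subgroup.index_dvd_of_le hker
  rw [Subgroup.index_ker] at h1
  exact h1.trans (Subgroup.card_subgroup_dvd_card _)

/-- a coclique with the classes `N`, `N - 1`, `N - 2` -/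
theorem coc_three (hF : Fintype.card F = q) (hN : 5 ≤ N) {z a w : ℕ} (hz : Good q z) (ha : Good q a)
    (hw : Good q w) (hzN : orderOf ((q : ℕ) : ZMod z) = N) (haN : orderOf ((q : ℕ) : ZMod a) = N - 1)
    (hwN : orderOf ((q : ℕ) : ZMod w) = N - 2) :
    IsCoc (Matrix.ProjectiveSpecialLinearGroup (Fin N) F) {z, a, w} ∧ ({z, a, w} : Finset ℕ).card = 3 := by
  have hnd : ∀ k l : ℕ, N - 2 ≤ k → k < l → l ≤ N → ¬ k ∣ l := by
    rintro k l h1 h2 h3 ⟨c, hc⟩
    have hc0 : c ≠ 0 := by rintro rfl; omega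
    have hc1 : c ≠ 1 := by rintro rfl; omega
    have hc2 : 2 ≤ c := by omega
    have : k * 2 ≤ k * c := Nat.mul_le_mul_left k hc2
    omega
  have key : ∀ x y : ℕ, Good q x → Good q y → N - 2 ≤ orderOf ((q : ℕ) : ZMod x) →
      orderOf ((q : ℕ) : ZMod x) < orderOf ((q : ℕ) : ZMod y) → orderOf ((q : ℕ) : ZMod y) ≤ N →
      ¬ ∃ g : Matrix.ProjectiveSpecialLinearGroup (Fin N) F, orderOf g = x * y := fun x y hx hy h1 h2 h3 =>
    not_adj hF (by omega) hx hy (by omega) h3 h2 (by omega) (hnd _ _ h1 h2 h3)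
  have hne : ∀ x y : ℕ, orderOf ((q : ℕ) : ZMod x) ≠ orderOf ((q : ℕ) : ZMod y) → x ≠ y := by
    rintro x y h rfl
    exact h rfl
  have hza : z ≠ a := hne _ _ (by omega)
  have hzw : z ≠ w := hne _ _ (by omega)
  have haw : a ≠ w := hne _ _ (by omega)
  refine ⟨⟨?_, ?_, ?_⟩, ?_⟩
  · intro x hx
    simp only [mem_insert, mem_singleton] at hx
    rcases hx with rfl | rfl | rfl
    exacts [hz.prime, ha.prime, hw.prime]
  · intro x hx
    simp only [mem_insert, mem_singleton] at hx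
    rcases hx with rfl | rfl | rfl
    · exact (dvd_iff hF (by omega) hz).2 (by omega)
    · exact (dvd_iff hF (by omega) ha).2 (by omega)
    · exact (dvd_iff hF (by omega) hw).2 (by omega)
  · intro x hx y hy hxy
    simp only [mem_insert, mem_singleton] at hx hy
    rcases hx with rfl | rfl | rfl <;> rcases hy with rfl | rfl | rfl
    · exact absurd rfl hxy
    · rw [mul_comm]; exact key _ _ ha hz (by (clear * - haN; omega)) (by omega) (by omega)
    · rw [mul_comm]; exact key _ _ hw hz (by omega) (by omega) (by omega)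
    · exact key _ _ ha hz (by (clear * - haN; omega)) (by omega) (by omega)
    · exact absurd rfl hxy
    · rw [mul_comm]; exact key _ _ hw ha (by omega) (by (clear * - hN haN hwN; omega)) (by (clear * - haN; omega))
    · exact key _ _ hw hz (by omega) (by omega) (by omega)
    · exact key _ _ hw ha (by omega) (by (clear * - hN hwN haN; omega)) (by omega)
    · exact absurd rfl hxy
  · rw [card_insert_of_notMem (by simp [hza, hzw]), card_insert_of_notMem (by simp [haw]), card_singleton]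

/-- **`S ≠ PSL_{N-1}(q)`** -/
theorem not_prev (hF : Fintype.card F = q) (hq : (q = 3 ∧ 9 ≤ N) ∨ (q = 5 ∧ 11 ≤ N)) {G : Type u} [Group G]
    [Finite G]
    (hL : (∀ r : ℕ, r.Prime → (r ∣ Nat.card (Matrix.ProjectiveSpecialLinearGroup (Fin N) F) ↔ r ∣ Nat.card G)) ∧
      (∀ r s : ℕ, r.Prime → s.Prime → r ≠ s →
        ((∃ x : Matrix.ProjectiveSpecialLinearGroup (Fin N) F, orderOf x = r * s) ↔
          (∃ y : G, orderOf y = r * s))))
    (K : Subgroup G) (hK : K.Normal) (S : Subgroup (G ⧸ K)) (hS : S.Normal) (R : Red G K S)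
    (H : SHyp (Matrix.ProjectiveSpecialLinearGroup (Fin N) F) ↥S) : ¬ IsNamed (.psl (N - 1) q) ↥S := by
  intro hg
  obtain ⟨E, _, _, hE, ⟨e⟩⟩ := hg.real
  have hqp := prime_q hq
  have hqf := Fact.mk hqp
  obtain ⟨z, hz, hzN⟩ := exists_good (q := q) (k := N) (by omega) (by omega)
  obtain ⟨a, ha, haN⟩ := exists_good (q := q) (k := N - 1) (by omega) (by omega)
  obtain ⟨w, hw, hwN⟩ := exists_good (q := q) (k := N - 2) (by omega) (by omega)
  have hcard : Nat.card ↥S = Nat.card (Matrix.ProjectiveSpecialLinearGroup (Fin (N - 1)) E) :=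
    Nat.card_congr e.toEquiv
  have hzS : ¬ z ∣ Nat.card ↥S := by
    rw [hcard, dvd_iff hE (by omega) hz]
    omega
  -- `z` divides `|K|`
  have hzL : z ∣ Nat.card (Matrix.ProjectiveSpecialLinearGroup (Fin N) F) := (dvd_iff hF (by omega) hz).2 (by omega)
  have hzKS : z ∣ Nat.card ↥K * S.index := by
    have h1 := (hL.1 z hz.prime).1 hzL
    rw [card_eq_mul (K := K) (S := S)] at h1
    exact (hz.prime.dvd_mul.1 h1).resolve_left hzS
  have hsimp := R.simple
  have hzI : ¬ z ∣ S.index := by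
    intro h1
    have h2 := h1.trans (index_dvd S R.cent)
    rw [H934.OutB.card_out_congr e, H163.PG.card_out_psl hqp le_rfl (by rw [hE, pow_one]) (by omega) ?_] at h2
    · rw [mul_one] at h2
      rcases hz.prime.dvd_mul.1 h2 with h3 | h3
      · exact hz.odd ((Nat.prime_dvd_prime_iff_eq hz.prime Nat.prime_two).1 h3)
      · have h4 := h3.trans (Nat.gcd_dvd_right _ _)
        rw [hE] at h4
        rcases id hq with ⟨h, -⟩ | ⟨h, -⟩
        · subst h
          exact hz.odd ((Nat.prime_dvd_prime_iff_eq hz.prime Nat.prime_two).1 h4)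
        · subst h
          exact hz.odd ((Nat.prime_dvd_prime_iff_eq hz.prime Nat.prime_two).1
            (hz.prime.dvd_of_dvd_pow (show z ∣ 2 ^ 2 from h4)))
    · -- the centre
      have hsimp' : IsSimpleGroup (Matrix.ProjectiveSpecialLinearGroup (Fin (N - 1)) E) :=
        e.symm.isSimpleGroup
      rcases (inferInstance : (Subgroup.center (Matrix.ProjectiveSpecialLinearGroup (Fin (N - 1)) E)).Normal).eq_bot_or_eq_top
        with h3 | h3
      · exact h3
      · exfalso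
        apply R.nonab
        refine ⟨⟨fun x y => e.injective ?_⟩⟩
        have h4 : e x ∈ Subgroup.center (Matrix.ProjectiveSpecialLinearGroup (Fin (N - 1)) E) := by
          rw [h3]; exact Subgroup.mem_top _
        rw [map_mul, map_mul]
        exact ((Subgroup.mem_center_iff.1 h4) (e y)).symm
  have hzK : z ∣ Nat.card ↥K := (hz.prime.dvd_mul.1 hzKS).resolve_right hzI
  -- `w` does not divide `|K|`
  obtain ⟨hC, hC3⟩ := coc_three hF (by omega) hz ha hw hzN haN hwN
  have hCG : IsCoq G {z, a, w} := (IsCoc.isCoq hC).of_same (fun r hr hd => (hL.1 r hr).1 hd)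
    (fun r s hr hs hrs hx => (hL.2 r s hr hs hrs).2 hx)
  have hzw : z ≠ w := by
    rintro rfl
    omega
  have hwK : ¬ w ∣ Nat.card ↥K := fun h => hzw (R.coc' _ hCG (by omega) z (by simp) w (by simp) hzKS (h.mul_right _))
  -- the pair in `S`
  have hchar : CharP E q := by
    have := charP_of_card_eq_prime_pow (R := E) (p := q) (f := 1) (by rw [hE, pow_one])
    exact this
  have hpair : ∃ (A : Subgroup (Matrix.ProjectiveSpecialLinearGroup (Fin (N - 1)) E))
      (y a : Matrix.ProjectiveSpecialLinearGroup (Fin (N - 1)) E), IsPGroup q A ∧ orderOf y = w ∧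
      y ∈ Subgroup.normalizer (A : Set (Matrix.ProjectiveSpecialLinearGroup (Fin (N - 1)) E)) ∧ a ∈ A ∧
      ¬ Commute y a := by
    have h1 : N - 1 = (N - 2) + 1 := by (clear * - hq; omega)
    rw [h1]
    exact PslPair.exists_pair hw.prime (by omega) (by rw [hE, hwN])
  obtain ⟨A, y, a', hA, hy, hyA, ha', hya⟩ := PslPair.transport e.symm hpair
  have hwq : q ≠ w := by
    rintro rfl
    exact hw.cop dvd_rfl
  have hzq : z ≠ q := by
    rintro rfl
    exact hz.cop dvd_rfl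
  obtain ⟨g, hg'⟩ := Shult.exists_orderOf_mul K R.solv S R.simple hz.prime hw.prime hqp hw.odd (by (clear * - hq; omega)) hzw hzq
    hwq hzK hwK A hA y hy hyA ha' hya
  exact hC.indep z (by simp) w (by simp) hzw ((hL.2 z w hz.prime hw.prime hzw).2 ⟨g, hg'⟩)

/-- **Quasirecognition of `PSL_N(3)`, `N ≥ 9`, and `PSL_N(5)`, `N ≥ 11`.** -/
theorem quasi (hF : Fintype.card F = q) (hq : (q = 3 ∧ 9 ≤ N) ∨ (q = 5 ∧ 11 ≤ N)) {G : Type u} [Group G]
    [Finite G]
    (hL : (∀ r : ℕ, r.Prime → (r ∣ Nat.card (Matrix.ProjectiveSpecialLinearGroup (Fin N) F) ↔ r ∣ Nat.card G)) ∧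
      (∀ r s : ℕ, r.Prime → s.Prime → r ≠ s →
        ((∃ x : Matrix.ProjectiveSpecialLinearGroup (Fin N) F, orderOf x = r * s) ↔
          (∃ y : G, orderOf y = r * s)))) :
    ∃ (K H : Subgroup G) (_ : K.Normal) (_ : H.Normal), K ≤ H ∧ Group.IsSolvable ↥K ∧ Group.IsSolvable (G ⧸ H) ∧
      Nonempty (↥H ⧸ K.subgroupOf H ≃* Matrix.ProjectiveSpecialLinearGroup (Fin N) F) :=
  quasi_of hF hq hL (not_prev hF hq hL)

end Cfsg.Agent.H376.LPsl
end

private theorem dce_ca99dac623dd : _root_.True := by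
  try have : _root_.True := by simp only [_root_.Cfsg.Agent.H376.ExcTab.fs3.eq_1]
  try have : _root_.True := by simp only [_root_.Cfsg.Agent.H376.ExcTab.fs5.eq_1]
  try have : _root_.True := by simp only [_root_.Cfsg.Agent.H376.ExcTab.d7.eq_1]
  try have : _root_.True := by simp only [_root_.Cfsg.Agent.H376.ExcTab.d2.eq_1]
  try have : _root_.True := by simp only [_root_.Cfsg.Agent.H376.ExcTab.d6.eq_1]
  try have : _root_.True := by simp only [_root_.Cfsg.Agent.H376.ExcTab.d8.eq_1]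
  exact _root_.True.intro
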